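import Cfsg.Prelude.Def_GeometricClasses
import Mathlib
import Cfsg.Agent.ClassicalGeometry.SympBasic
import Cfsg.Agent.H383.Cov.Parity_m3
import Cfsg.Agent.H588.ZsigPart
import Cfsg.Agent.Lib.Zsigmondy
import Cfsg.Agent.H948.UMain
import Cfsg.Agent.S0813
import Cfsg.Agent.S0815
import Cfsg.Agent.H925.NatConj
import Cfsg.Agent.H905.SLProper3
import Cfsg.Agent.FastGrp
import Cfsg.Agent.Prune
set_option linter.all false

section
prune_inst 0x7fffa8f9b9f9f7dfdf7f7e77f6dccdfdffbb3fffa6dff9cbbfe021df0bdf4b0049c5a3ad0bea11fe0e96401410e87b43fdffdeffea6bdc7ffffd5ff41ffbff8ffdf7b508119588340f3c0ffe03f0778e7f3fffffffffffffffffffffffffffbeffbfffffffff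

-- part: H906/Cov/EKill
section
set_option linter.all false
open scoped Cfsg.Agent.FastGrp

/-!
# S2499, task COV-EKILL

An element `t` of order prime to the prime `r` normalising a field of matrices of degree `r` centralises it, so the
dimension of the kernel of every polynomial in `t` is divisible by `r`.
-/

set_option autoImplicit false

namespace Cfsg.Agent.H906.Cov

open Cfsg Cfsg.Geo
open scoped MatrixGroups

universe u

variable {ι : Type} [Fintype ι] [DecidableEq ι] {F : Type u} [Field F]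

theorem isField_of [Nonempty ι] {r : ℕ} {E : Subalgebra F (Matrix ι ι F)} (hE : IsFieldSubalgebra r E) : IsField E where
  exists_pair_ne := exists_pair_ne E
  mul_comm x y := Subtype.ext (hE.comm x x.2 y y.2)
  mul_inv_cancel {x} hx := by
    obtain ⟨y, hy, hxy⟩ := hE.inv x x.2 (fun h => hx (Subtype.ext h))
    exact ⟨⟨y, hy⟩, Subtype.ext hxy⟩

/-- conjugation by an element of the normaliser -/
def conjE {E : Subalgebra F (Matrix ι ι F)} {t : GL ι F} (ht : t ∈ subalgebraNormalizer E) : E →ₐ[F] E where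
  toFun x := ⟨(t : Matrix ι ι F) * x * ((t⁻¹ : GL ι F) : Matrix ι ι F), (ht x).1 x.2⟩
  map_one' := by
    apply Subtype.ext
    change (t : Matrix ι ι F) * 1 * ((t⁻¹ : GL ι F) : Matrix ι ι F) = 1
    rw [mul_one, ← Units.val_mul, mul_inv_cancel, Units.val_one]
  map_mul' x y := by
    apply Subtype.ext
    change (t : Matrix ι ι F) * (x * y) * ((t⁻¹ : GL ι F) : Matrix ι ι F) =
      ((t : Matrix ι ι F) * x * ((t⁻¹ : GL ι F) : Matrix ι ι F)) * ((t : Matrix ι ι F) * y * ((t⁻¹ : GL ι F) : Matrix ι ι F))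
    have h : ((t⁻¹ : GL ι F) : Matrix ι ι F) * (t : Matrix ι ι F) = 1 := by
      rw [← Units.val_mul, inv_mul_cancel, Units.val_one]
    calc (t : Matrix ι ι F) * (x * y) * ((t⁻¹ : GL ι F) : Matrix ι ι F)
        = (t : Matrix ι ι F) * x * 1 * y * ((t⁻¹ : GL ι F) : Matrix ι ι F) := by simp only [mul_one, mul_assoc]
      _ = _ := by rw [← h]; simp only [mul_assoc]
  map_zero' := by
    apply Subtype.ext
    change (t : Matrix ι ι F) * 0 * ((t⁻¹ : GL ι F) : Matrix ι ι F) = 0
    simp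
  map_add' x y := by
    apply Subtype.ext
    change (t : Matrix ι ι F) * (x + y) * ((t⁻¹ : GL ι F) : Matrix ι ι F) =
      (t : Matrix ι ι F) * x * ((t⁻¹ : GL ι F) : Matrix ι ι F) + (t : Matrix ι ι F) * y * ((t⁻¹ : GL ι F) : Matrix ι ι F)
    rw [mul_add, add_mul]
  commutes' c := by
    apply Subtype.ext
    change (t : Matrix ι ι F) * (algebraMap F (Matrix ι ι F) c) * ((t⁻¹ : GL ι F) : Matrix ι ι F) =
      algebraMap F (Matrix ι ι F) c
    rw [← Algebra.commutes, mul_assoc, ← Units.val_mul, mul_inv_cancel, Units.val_one, mul_one]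

theorem conjE_coe {E : Subalgebra F (Matrix ι ι F)} {t : GL ι F} (ht : t ∈ subalgebraNormalizer E) (x : E) :
    ((conjE ht x : E) : Matrix ι ι F) = (t : Matrix ι ι F) * x * ((t⁻¹ : GL ι F) : Matrix ι ι F) := rfl

/-- `t` centralises the field -/
theorem commute_of_coprime [Finite F] [Nonempty ι] {r : ℕ} {E : Subalgebra F (Matrix ι ι F)}
    (hE : IsFieldSubalgebra r E) {t : GL ι F} (ht : t ∈ subalgebraNormalizer E)
    (hco : Nat.Coprime (orderOf t) r) (x : Matrix ι ι F) (hx : x ∈ E) : (t : Matrix ι ι F) * x = x * t := by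
  let _ : Field E := (isField_of hE).toField
  have hfin : Finite E := Module.finite_of_finite F
  have hinj : Function.Injective (conjE ht) := (conjE ht).toRingHom.injective
  let φ : E ≃ₐ[F] E := AlgEquiv.ofBijective (conjE ht) (Finite.injective_iff_bijective.1 hinj)
  have hφ : ∀ y : E, ((φ y : E) : Matrix ι ι F) = (t : Matrix ι ι F) * y * ((t⁻¹ : GL ι F) : Matrix ι ι F) := fun y => rfl
  have hpow : ∀ (k : ℕ) (y : E), (((φ ^ k) y : E) : Matrix ι ι F) =
      ((t ^ k : GL ι F) : Matrix ι ι F) * y * (((t ^ k)⁻¹ : GL ι F) : Matrix ι ι F) := by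
    intro k
    induction k with
    | zero => intro y; simp
    | succ k ih =>
      intro y
      rw [pow_succ, AlgEquiv.mul_apply, ih, hφ, pow_succ, mul_inv_rev, Units.val_mul, Units.val_mul]
      simp only [mul_assoc]
  have h1 : φ ^ orderOf t = 1 := by
    ext y
    rw [hpow, pow_orderOf_eq_one]
    simp
  have hcard : Nat.card (E ≃ₐ[F] E) = r := by
    rw [IsGalois.card_aut_eq_finrank F E, hE.finrank_eq]
  have h2 : orderOf φ ∣ r := hcard ▸ orderOf_dvd_natCard φ
  have h3 : orderOf φ ∣ orderOf t := orderOf_dvd_of_pow_eq_one h1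
  have h4 : orderOf φ = 1 := Nat.dvd_one.1 (hco ▸ Nat.dvd_gcd h3 h2)
  have h5 : φ = 1 := orderOf_eq_one_iff.1 h4
  have h6 : (t : Matrix ι ι F) * x * ((t⁻¹ : GL ι F) : Matrix ι ι F) = x := by
    rw [← hφ ⟨x, hx⟩, h5]
    rfl
  calc (t : Matrix ι ι F) * x = (t : Matrix ι ι F) * x * (((t⁻¹ : GL ι F) : Matrix ι ι F) * (t : Matrix ι ι F)) := by
        rw [← Units.val_mul, inv_mul_cancel, Units.val_one, mul_one]
    _ = x * t := by rw [← mul_assoc, h6]

/-- the dimension of an `E`-invariant subspace is divisible by the degree of `E` -/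
theorem dvd_finrank_of_invariant [Nonempty ι] {r : ℕ} {E : Subalgebra F (Matrix ι ι F)}
    (hE : IsFieldSubalgebra r E) (W : Submodule F (ι → F))
    (hW : ∀ x ∈ E, ∀ v ∈ W, Matrix.mulVec x v ∈ W) : r ∣ Module.finrank F W := by
  let _ : Field E := (isField_of hE).toField
  let W' : Submodule E (ι → F) :=
    { carrier := W
      add_mem' := fun ha hb => W.add_mem ha hb
      zero_mem' := W.zero_mem
      smul_mem' := fun x v hv => hW x x.2 v hv }
  have hfree : Module.Free E W' := Module.Free.of_divisionRing E W'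
  have h1 := Module.finrank_mul_finrank F E W'
  rw [hE.finrank_eq] at h1
  have h2 : Module.finrank F W' = Module.finrank F W := rfl
  exact ⟨_, by rw [← h2, h1]⟩

/-- **COV-EKILL** -/
theorem ext_dvd [Finite F] {r : ℕ} (_ : r.Prime)
    {E : Subalgebra F (Matrix ι ι F)} (hE : IsFieldSubalgebra r E) {t : GL ι F} (ht : t ∈ subalgebraNormalizer E)
    (hco : Nat.Coprime (orderOf t) r) (P : Polynomial F) :
    r ∣ Module.finrank F (LinearMap.ker (Polynomial.aeval (Matrix.toLin' (t : Matrix ι ι F)) P)) := by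
  rcases isEmpty_or_nonempty ι with h0 | h0
  · have : Module.finrank F (LinearMap.ker (Polynomial.aeval (Matrix.toLin' (t : Matrix ι ι F)) P)) = 0 := by
      apply Module.finrank_zero_of_subsingleton
    rw [this]
    exact dvd_zero r
  apply dvd_finrank_of_invariant hE
  intro x hx v hv
  rw [LinearMap.mem_ker] at hv ⊢
  have hc : Commute (Matrix.toLin' x) (Matrix.toLin' (t : Matrix ι ι F)) := by
    have h := commute_of_coprime hE ht hco x hx
    change Matrix.toLin' x ∘ₗ Matrix.toLin' (t : Matrix ι ι F) = Matrix.toLin' (t : Matrix ι ι F) ∘ₗ Matrix.toLin' x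
    rw [← Matrix.toLin'_mul, ← Matrix.toLin'_mul, h]
  have hP : ∀ Q : Polynomial F, Commute (Matrix.toLin' x) (Polynomial.aeval (Matrix.toLin' (t : Matrix ι ι F)) Q) := by
    intro Q
    induction Q using Polynomial.induction_on' with
    | add p q hp hq => rw [map_add]; exact hp.add_right hq
    | monomial n a =>
      rw [Polynomial.aeval_monomial]
      exact (Algebra.commute_algebraMap_right a _).mul_right (hc.pow_right n)
  have h1 := congrArg (fun f : Module.End F (ι → F) => f v) (hP P).eq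
  change Matrix.toLin' x (Polynomial.aeval (Matrix.toLin' (t : Matrix ι ι F)) P v) =
    Polynomial.aeval (Matrix.toLin' (t : Matrix ι ι F)) P (Matrix.toLin' x v) at h1
  rw [hv, map_zero] at h1
  exact h1.symm

end Cfsg.Agent.H906.Cov
end

-- part: H781/Cov9/Perm
section
set_option linter.all false
open scoped Cfsg.Agent.FastGrp

/-!
# S2499, row `Ω_9(q)`: permutations of nine points; the monomial group (helper781)
-/

set_option autoImplicit false
set_option linter.unusedSectionVars false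

namespace Cfsg.Agent.H781.Cov9

open Cfsg Cfsg.Geo Module
open scoped Matrix MatrixGroups

theorem exists_dvd_of_lcm {p : ℕ} (hp : p.Prime) (s : Multiset ℕ) (h : p ∣ s.lcm) : ∃ c ∈ s, p ∣ c := by
  induction s using Multiset.induction_on with
  | empty =>
    rw [Multiset.lcm_zero] at h
    exact absurd (Nat.dvd_one.1 h) hp.one_lt.ne'
  | cons a s ih =>
    rw [Multiset.lcm_cons] at h
    have h1 : p ∣ a * s.lcm := h.trans (lcm_dvd_mul a s.lcm)
    rcases (hp.dvd_mul).1 h1 with h2 | h2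
    · exact ⟨a, Multiset.mem_cons_self _ _, h2⟩
    · obtain ⟨c, hc, hc2⟩ := ih h2
      exact ⟨c, Multiset.mem_cons_of_mem hc, hc2⟩

/-- `S_9` has no element of order divisible by `7 p`, `p` an odd prime. -/
theorem perm_nine {σ : Equiv.Perm (Fin 9)} {p : ℕ} (hp : p.Prime) (hp2 : p ≠ 2) (hp7 : p ≠ 7)
    (h7 : 7 ∣ orderOf σ) (hpo : p ∣ orderOf σ) : False := by
  classical
  rw [← Equiv.Perm.lcm_cycleType] at h7 hpo
  obtain ⟨c, hc, hc7⟩ := exists_dvd_of_lcm (by norm_num) _ h7
  obtain ⟨d, hd, hdp⟩ := exists_dvd_of_lcm hp _ hpo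
  have hsum : σ.cycleType.sum ≤ 9 := by
    rw [Equiv.Perm.sum_cycleType]
    exact (Finset.card_le_univ _).trans (by simp)
  have h2c := Equiv.Perm.two_le_of_mem_cycleType hc
  have h2d := Equiv.Perm.two_le_of_mem_cycleType hd
  have hp3 : 3 ≤ p := by have := hp.two_le; omega
  obtain ⟨s, hs⟩ := Multiset.exists_cons_of_mem hc
  rw [hs, Multiset.sum_cons] at hsum
  rw [hs, Multiset.mem_cons] at hd
  rcases hd with rfl | hd
  · have h1 : 7 * p ∣ d := Nat.Coprime.mul_dvd_of_dvd_of_dvd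
      ((Nat.coprime_primes (by norm_num) hp).2 (Ne.symm hp7)) hc7 hdp
    have := Nat.le_of_dvd (by omega) h1
    omega
  · have h1 : d ≤ s.sum := Multiset.single_le_sum (by simp) d hd
    have h2 := Nat.le_of_dvd (by omega) hc7
    have h3 := Nat.le_of_dvd (by omega) hdp
    omega

section

variable {ι : Type} [Fintype ι] [DecidableEq ι] {F : Type*} [Field F]

theorem D_injective {t m : ℕ} {D : Fin t → Submodule F (ι → F)} (hD : IsMDecomposition m D) :
    Function.Injective D := by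
  apply hD.indep.injective
  intro i h
  have h1 := hD.finrank_eq i
  rw [h, finrank_bot] at h1
  exact hD.pos.ne h1

/-- the permutation representation of the stabiliser of a decomposition -/
theorem exists_permHom {t m : ℕ} {D : Fin t → Submodule F (ι → F)} (hD : IsMDecomposition m D) :
    ∃ ψ : ↥(decompositionStabilizer D) →* Equiv.Perm (Fin t),
    ∀ (g : ↥(decompositionStabilizer D)) i,
      (D i).map (Matrix.toLin' ((g : GL ι F) : Matrix ι ι F)) = D (ψ g i) := by
  have hinj := D_injective hD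
  choose f hf using fun g : ↥(decompositionStabilizer D) => g.2
  refine ⟨⟨⟨f, ?_⟩, ?_⟩, hf⟩
  · ext i
    have h1 := hf 1 i
    have h2 : (D i).map (Matrix.toLin' (((1 : ↥(decompositionStabilizer D)) : GL ι F) : Matrix ι ι F)) = D i := by
      simp
    rw [h2] at h1
    rw [← hinj h1]
    rfl
  · intro g h
    ext i
    have h1 := hf (g * h) i
    have h2 : (D i).map (Matrix.toLin' (((g * h : ↥(decompositionStabilizer D)) : GL ι F) : Matrix ι ι F)) =
        D (f g (f h i)) := by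
      rw [Subgroup.coe_mul, Units.val_mul, Matrix.toLin'_mul, Submodule.map_comp, hf, hf]
    rw [h2] at h1
    rw [← hinj h1]
    rfl

/-- an isometry fixing the members of an orthogonal decomposition into lines is an involution -/
theorem sq_eq_one_of_lines {t : ℕ} {Q : QuadraticForm F (ι → F)} {D : Fin t → Submodule F (ι → F)}
    (hD : IsOrthogonalMDecomposition (⇑Q) 1 D) {g : GL ι F} (hg : g ∈ isometryGroup F (⇑Q))
    (hgD : ∀ i, (D i).map (Matrix.toLin' (g : Matrix ι ι F)) = D i) : g ^ 2 = 1 := by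
  have hline : ∀ i, ∀ v ∈ D i, (g : Matrix ι ι F) *ᵥ ((g : Matrix ι ι F) *ᵥ v) = v := by
    intro i v hv
    by_cases hv0 : v = 0
    · rw [hv0, Matrix.mulVec_zero, Matrix.mulVec_zero]
    have h1 := hD.decomp.decomp.finrank_eq i
    have h3 : ∀ w ∈ D i, ∃ c : F, c • v = w := by
      intro w hw
      obtain ⟨c, hc⟩ := (finrank_eq_one_iff_of_nonzero' (⟨v, hv⟩ : D i) (by
        intro h; exact hv0 (congrArg Subtype.val h))).1 h1 ⟨w, hw⟩
      exact ⟨c, congrArg Subtype.val hc⟩
    have hmem : (g : Matrix ι ι F) *ᵥ v ∈ D i := by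
      rw [← hgD i]
      exact ⟨v, hv, by rw [Matrix.toLin'_apply]⟩
    obtain ⟨c, hc⟩ := h3 _ hmem
    -- `Q v ≠ 0`
    have hQv : Q v ≠ 0 := by
      intro h0
      have hn := (hD.decomp.nondegenerate i v hv hv0).1
      obtain ⟨x, hx, hx0⟩ := hn
      obtain ⟨a, rfl⟩ := h3 x hx
      apply hx0
      rw [QuadraticMap.polar_smul_left, QuadraticMap.polar_self, h0, smul_zero, smul_zero]
    have h4 : Q ((g : Matrix ι ι F) *ᵥ v) = Q v := by
      have := hg
      exact this v v
    rw [← hc, QuadraticMap.map_smul, smul_eq_mul] at h4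
    have h5 : c * c = 1 := by
      have h6 : (c * c - 1) * Q v = 0 := by rw [sub_mul, h4]; ring
      rcases mul_eq_zero.1 h6 with h | h
      · exact sub_eq_zero.1 h
      · exact absurd h hQv
    rw [← hc, Matrix.mulVec_smul, ← hc, smul_smul, h5, one_smul]
  apply Units.ext
  apply Matrix.toLin'.injective
  rw [Units.val_pow_eq_pow_val, Units.val_one, Matrix.toLin'_one]
  have htop : ∀ v : ι → F, v ∈ iSup D := by
    rw [hD.decomp.decomp.iSup_eq_top]; intro v; trivial
  refine LinearMap.ext fun v => ?_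
  refine Submodule.iSup_induction D (motive := fun v => (Matrix.toLin' ((g : Matrix ι ι F) ^ 2)) v = LinearMap.id v)
    (htop v) ?_ ?_ ?_
  · intro i x hx
    rw [Matrix.toLin'_apply, pow_two, ← Matrix.mulVec_mulVec, hline i x hx]; rfl
  · rw [map_zero, map_zero]
  · intro x y hx hy
    rw [map_add, map_add, hx, hy]

theorem eq_one_of_sq {G : Type*} [Group G] {g : G} {r : ℕ} (hr : Odd r) (h : g ^ r = 1) (h2 : g ^ 2 = 1) : g = 1 := by
  obtain ⟨k, rfl⟩ := hr
  rw [pow_add, pow_mul, h2, one_pow, one_mul, pow_one] at h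
  exact h

/-- a commuting pair of isometries of orders `7` and `p` does not stabilise an orthogonal decomposition of a
nine-dimensional space into lines -/
theorem no_nine {Q : QuadraticForm F (ι → F)} {D : Fin 9 → Submodule F (ι → F)}
    (hD : IsOrthogonalMDecomposition (⇑Q) 1 D) {y u : GL ι F} (hy : y ∈ isometryGroup F (⇑Q))
    (hu : u ∈ isometryGroup F (⇑Q)) (hyD : y ∈ decompositionStabilizer D) (huD : u ∈ decompositionStabilizer D)
    (hc : y * u = u * y) (hy7 : y ^ 7 = 1) (hy1 : y ≠ 1) {p : ℕ} (hp : p.Prime) (hp2 : p ≠ 2) (hp7 : p ≠ 7)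
    (hup : u ^ p = 1) (hu1 : u ≠ 1) : False := by
  obtain ⟨ψ, hψ⟩ := exists_permHom hD.decomp.decomp
  have key : ∀ (g : ↥(decompositionStabilizer D)) (r : ℕ), r.Prime → Odd r → (g : GL ι F) ∈ isometryGroup F (⇑Q) →
      (g : GL ι F) ^ r = 1 → (g : GL ι F) ≠ 1 → orderOf (ψ g) = r := by
    intro g r hr hro hg hgr hg1
    have := Fact.mk hr
    apply orderOf_eq_prime
    · rw [← map_pow]
      have : g ^ r = 1 := Subtype.ext hgr
      rw [this, map_one]
    · intro h1
      apply hg1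
      apply eq_one_of_sq hro hgr
      apply sq_eq_one_of_lines hD hg
      intro i
      rw [hψ, h1]
      rfl
  have h7 := key ⟨y, hyD⟩ 7 (by norm_num) (by decide) hy hy7 hy1
  have hpo := key ⟨u, huD⟩ p hp (hp.odd_of_ne_two hp2) hu hup hu1
  have hcom : Commute (ψ ⟨y, hyD⟩) (ψ ⟨u, huD⟩) := by
    have : (⟨y, hyD⟩ : ↥(decompositionStabilizer D)) * ⟨u, huD⟩ = ⟨u, huD⟩ * ⟨y, hyD⟩ := Subtype.ext hc
    change ψ _ * ψ _ = ψ _ * ψ _
    rw [← map_mul, this, map_mul]
  have hord := hcom.orderOf_mul_eq_mul_orderOf_of_coprime (by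
    rw [h7, hpo]
    exact (Nat.coprime_primes (by norm_num) hp).2 (Ne.symm hp7))
  rw [h7, hpo] at hord
  exact perm_nine hp hp2 hp7 (by rw [hord]; exact Dvd.intro _ rfl) (by rw [hord]; exact Dvd.intro_left _ rfl)

end

end Cfsg.Agent.H781.Cov9
end

-- part: H248/Cov/Blk
section
prune_inst 0x5506440608200000000008033000000040000920040000000c000400109c840054008001220011618a00000680000200210000040200000000004000007000000800400a0080008000010000000000000000000000000000000000000000000000000000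
set_option linter.all false
open scoped Cfsg.Agent.FastGrp

-- part: H248/Cov/ZLemma
section
/-!
# S2499, the z-lemma

`g` of odd order, `V4` its fixed space; `lam`, `u` commute with `g` and are trivial on `[V, g]`; on `V4` `lam` is a root
of the irreducible polynomial `X ^ 2 - t X + 1` and an isometry, and `u - 1` maps `V4` onto its kernel `C`, on which
`lam` acts irreducibly.  Then `g`, `lam`, `u` do not normalise a common quadratic field of self-adjoint matrices.
-/

set_option autoImplicit false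
set_option linter.unusedSectionVars false

namespace Cfsg.Agent.H248.Cov

open Cfsg Cfsg.Geo Matrix
open scoped MatrixGroups

universe u

section Root

variable {ι : Type} [Fintype ι] [DecidableEq ι] {F : Type u} [Field F]

/-- a quadratic field of matrices contains a root of `X ^ 2 - t X + 1` -/
theorem exists_root [Finite F] [Nonempty ι] {K : Subalgebra F (Matrix ι ι F)} (hK : IsFieldSubalgebra 2 K) {t : F}
    (ht : ∀ c : F, c * c - t * c + 1 ≠ 0) : ∃ k ∈ K, k * k - t • k + 1 = 0 := by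
  classical
  let P : Polynomial F := Polynomial.X ^ 2 + Polynomial.C (-t) * Polynomial.X + Polynomial.C 1
  have hdeg : P.natDegree = 2 := by
    have : P = Polynomial.C 1 * Polynomial.X ^ 2 + Polynomial.C (-t) * Polynomial.X + Polynomial.C 1 := by
      simp only [P, _root_.map_neg, _root_.neg_mul, _root_.map_one, _root_.one_mul]
    rw [this]
    exact Polynomial.natDegree_quadratic one_ne_zero
  have hirr : Irreducible P := by
    rw [Polynomial.irreducible_iff_roots_eq_zero_of_degree_le_three (by omega) (by omega)]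
    by_contra h
    obtain ⟨c, hc⟩ := Multiset.exists_mem_of_ne_zero h
    have hc0 : P.eval c = 0 := (Polynomial.mem_roots'.1 hc).2
    apply ht c
    simp only [P, Polynomial.eval_add, Polynomial.eval_mul, Polynomial.eval_pow, Polynomial.eval_X,
      Polynomial.eval_C] at hc0
    linear_combination hc0
  let _ : Field K := (Cfsg.Agent.H906.Cov.isField_of hK).toField
  have : Fact (Irreducible P) := ⟨hirr⟩
  have hfinK : Finite K := Module.finite_of_finite F
  have hP0 : P ≠ 0 := hirr.ne_zero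
  have hf1 : Module.finrank F (AdjoinRoot P) = 2 := by
    rw [(AdjoinRoot.powerBasis hP0).finrank, AdjoinRoot.powerBasis_dim, hdeg]
  have : FiniteDimensional F (AdjoinRoot P) := Module.finite_of_finrank_pos (by rw [hf1]; norm_num)
  have hfinA : Finite (AdjoinRoot P) := Module.finite_of_finite F
  obtain ⟨f⟩ := FiniteField.nonempty_algHom_of_finrank_dvd (F := F) (K := AdjoinRoot P) (L := K)
    (by rw [hf1, hK.finrank_eq])
  refine ⟨(f (AdjoinRoot.root P) : K), (f (AdjoinRoot.root P)).2, ?_⟩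
  have h1 : Polynomial.aeval (f (AdjoinRoot.root P)) P = 0 := by
    rw [Polynomial.aeval_algHom_apply, AdjoinRoot.aeval_eq, AdjoinRoot.mk_self, map_zero]
  have h2 : f (AdjoinRoot.root P) * f (AdjoinRoot.root P) - t • f (AdjoinRoot.root P) + 1 = 0 := by
    generalize f (AdjoinRoot.root P) = r at h1 ⊢
    have h3 : Polynomial.aeval r P = r ^ 2 + algebraMap F K (-t) * r + algebraMap F K 1 := by
      simp only [P, map_add, map_mul, map_pow, Polynomial.aeval_X, Polynomial.aeval_C]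
    rw [h3, map_neg, map_one] at h1
    rw [Algebra.smul_def]
    linear_combination h1
  exact congrArg Subtype.val h2

end Root

section Z

variable {ι : Type} [Fintype ι] [DecidableEq ι] {F : Type u} [Field F] [Finite F] [Nonempty ι]

/-- the data of the z-lemma -/
structure ZData (f : (ι → F) → (ι → F) → F) (g lam w : GL ι F) (V4 C : Submodule F (ι → F)) (t : F) : Prop where
  two : (2 : F) ≠ 0
  form : IsBilinearForm f
  odd : Nat.Coprime (orderOf g) 2
  ne_one : g ≠ 1
  fix : ∀ v, v ∈ V4 ↔ (g : Matrix ι ι F) *ᵥ v = v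
  lam_one : ∀ v, (lam : Matrix ι ι F) *ᵥ ((g : Matrix ι ι F) *ᵥ v - v) = (g : Matrix ι ι F) *ᵥ v - v
  w_one : ∀ v, (w : Matrix ι ι F) *ᵥ ((g : Matrix ι ι F) *ᵥ v - v) = (g : Matrix ι ι F) *ᵥ v - v
  glam : g * lam = lam * g
  gw : g * w = w * g
  lamw : lam * w = w * lam
  irr : ∀ c : F, c * c - t * c + 1 ≠ 0
  lam_sq : ∀ v ∈ V4, (lam : Matrix ι ι F) *ᵥ ((lam : Matrix ι ι F) *ᵥ v) = t • ((lam : Matrix ι ι F) *ᵥ v) - v
  iso : ∀ x y, f ((lam : Matrix ι ι F) *ᵥ x) ((lam : Matrix ι ι F) *ᵥ y) = f x y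
  nd : ∀ v ∈ V4, v ≠ 0 → ∃ x ∈ V4, f x v ≠ 0
  mem_C : ∀ v, v ∈ C ↔ v ∈ V4 ∧ (w : Matrix ι ι F) *ᵥ v = v
  sub_mem : ∀ v ∈ V4, (w : Matrix ι ι F) *ᵥ v - v ∈ C
  C_ne : C ≠ ⊥
  V4_ne : V4 ≠ ⊥
  C_irr : ∀ W ≤ C, (∀ v ∈ W, (lam : Matrix ι ι F) *ᵥ v ∈ W) → W = ⊥ ∨ W = C

variable {f : (ι → F) → (ι → F) → F} {g lam w : GL ι F} {V4 C : Submodule F (ι → F)} {t : F}

/-- an element trivial on `[V, g]` commutes with a field commuting with `g` -/
theorem comm_of_triv {K : Subalgebra F (Matrix ι ι F)} (hK : IsFieldSubalgebra 2 K) (hg1 : g ≠ 1)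
    (hgK : ∀ k ∈ K, (g : Matrix ι ι F) * k = k * (g : Matrix ι ι F)) {y : GL ι F} (hy : y ∈ subalgebraNormalizer K)
    (h1 : ∀ v, (y : Matrix ι ι F) *ᵥ ((g : Matrix ι ι F) *ᵥ v - v) = (g : Matrix ι ι F) *ᵥ v - v) :
    ∀ k ∈ K, (y : Matrix ι ι F) * k = k * (y : Matrix ι ι F) := by
  intro k hk
  have hk' : (y : Matrix ι ι F) * k * ((y⁻¹ : GL ι F) : Matrix ι ι F) ∈ K := (hy k).1 hk
  obtain ⟨v, hv⟩ : ∃ v, (g : Matrix ι ι F) *ᵥ v ≠ v := by
    by_contra hcon
    push Not at hcon
    apply hg1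
    apply Units.ext
    apply Matrix.toLin'.injective
    apply LinearMap.ext
    intro v
    rw [Matrix.toLin'_apply, hcon v, Units.val_one, Matrix.toLin'_one]
    rfl
  set w0 := (g : Matrix ι ι F) *ᵥ v - v with hw0
  have hw0' : w0 ≠ 0 := sub_ne_zero.2 hv
  have e1 : ((y⁻¹ : GL ι F) : Matrix ι ι F) *ᵥ w0 = w0 := by
    have h2 : (y : Matrix ι ι F) *ᵥ w0 = w0 := h1 v
    conv_lhs => rw [← h2]
    rw [Matrix.mulVec_mulVec, ← Units.val_mul, inv_mul_cancel, Units.val_one, Matrix.one_mulVec]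
  have e2 : (y : Matrix ι ι F) *ᵥ (k *ᵥ w0) = k *ᵥ w0 := by
    have : k *ᵥ w0 = (g : Matrix ι ι F) *ᵥ (k *ᵥ v) - k *ᵥ v := by
      rw [hw0, Matrix.mulVec_sub, Matrix.mulVec_mulVec, Matrix.mulVec_mulVec, hgK k hk]
    rw [this, h1]
  have e3 : ((y : Matrix ι ι F) * k * ((y⁻¹ : GL ι F) : Matrix ι ι F) - k) *ᵥ w0 = 0 := by
    rw [Matrix.sub_mulVec, ← Matrix.mulVec_mulVec, e1, ← Matrix.mulVec_mulVec, e2, sub_self]
  have e4 : (y : Matrix ι ι F) * k * ((y⁻¹ : GL ι F) : Matrix ι ι F) - k = 0 := by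
    by_contra hne
    obtain ⟨z, hz, hz1⟩ := hK.inv _ (K.sub_mem hk' hk) hne
    apply hw0'
    rw [← Matrix.one_mulVec w0, ← hz1, hK.comm _ (K.sub_mem hk' hk) z hz, ← Matrix.mulVec_mulVec, e3,
      Matrix.mulVec_zero]
  have e5 := sub_eq_zero.1 e4
  calc (y : Matrix ι ι F) * k = (y : Matrix ι ι F) * k * (((y⁻¹ : GL ι F) : Matrix ι ι F) * (y : Matrix ι ι F)) := by
        rw [← Units.val_mul, inv_mul_cancel, Units.val_one, Matrix.mul_one]
    _ = k * (y : Matrix ι ι F) := by rw [← Matrix.mul_assoc, e5]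

/-- `lam ^ 2 - 1` is injective on `V4` -/
theorem ZData.eq_zero (h : ZData f g lam w V4 C t) {v : ι → F} (hv : v ∈ V4) {a b : F} (ha : a ≠ 0)
    (h1 : a • ((lam : Matrix ι ι F) *ᵥ v) = b • v) : v = 0 := by
  have h2 : (lam : Matrix ι ι F) *ᵥ v = (a⁻¹ * b) • v := by
    rw [mul_smul, ← h1, smul_smul, inv_mul_cancel₀ ha, one_smul]
  have h3 := h.lam_sq v hv
  rw [h2, Matrix.mulVec_smul, h2, smul_smul, smul_smul] at h3
  by_contra hv0
  apply h.irr (a⁻¹ * b)
  have h4 : ((a⁻¹ * b) * (a⁻¹ * b) - t * (a⁻¹ * b) + 1) • v = 0 := by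
    rw [add_smul, sub_smul, h3, one_smul]
    abel
  exact (smul_eq_zero.1 h4).resolve_right hv0

theorem ZData.mem4 (h : ZData f g lam w V4 C t) {v : ι → F} (hv : v ∈ V4) {k : Matrix ι ι F}
    (hk : (g : Matrix ι ι F) * k = k * (g : Matrix ι ι F)) : k *ᵥ v ∈ V4 := by
  rw [h.fix] at hv ⊢
  rw [Matrix.mulVec_mulVec, hk, ← Matrix.mulVec_mulVec, hv]

theorem ZData.lam4 (h : ZData f g lam w V4 C t) {v : ι → F} (hv : v ∈ V4) : (lam : Matrix ι ι F) *ᵥ v ∈ V4 :=
  h.mem4 hv (by rw [← Units.val_mul, h.glam, Units.val_mul])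

theorem ZData.w4 (h : ZData f g lam w V4 C t) {v : ι → F} (hv : v ∈ V4) : (w : Matrix ι ι F) *ᵥ v ∈ V4 :=
  h.mem4 hv (by rw [← Units.val_mul, h.gw, Units.val_mul])

/-- no self-adjoint `k` agrees with `lam` on `V4` -/
theorem ZData.not_eq (h : ZData f g lam w V4 C t) {k : Matrix ι ι F} (hk : ∀ x y, f (k *ᵥ x) y = f x (k *ᵥ y))
    (he : ∀ v ∈ V4, k *ᵥ v = (lam : Matrix ι ι F) *ᵥ v) : False := by
  obtain ⟨y, hy, hy0⟩ := (Submodule.ne_bot_iff _).1 h.V4_ne
  set z := (lam : Matrix ι ι F) *ᵥ ((lam : Matrix ι ι F) *ᵥ y) - y with hz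
  have hz4 : z ∈ V4 := V4.sub_mem (h.lam4 (h.lam4 hy)) hy
  have hz0 : z ≠ 0 := by
    intro h0
    apply hy0
    rw [hz, h.lam_sq y hy] at h0
    by_cases ht : t = 0
    · rw [ht, zero_smul] at h0
      have h1 : (2 : F) • y = 0 := by
        rw [two_smul]
        have : (0 : ι → F) - y - y = 0 := h0
        rw [← neg_eq_zero, ← this]
        abel
      exact (smul_eq_zero.1 h1).resolve_left h.two
    · apply h.eq_zero hy (a := t) (b := 2) ht
      rw [two_smul]
      rw [← sub_eq_zero, ← h0]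
      abel
  obtain ⟨x, hx, hne⟩ := h.nd z hz4 hz0
  apply hne
  have e1 : f ((lam : Matrix ι ι F) *ᵥ x) ((lam : Matrix ι ι F) *ᵥ y) =
      f x ((lam : Matrix ι ι F) *ᵥ ((lam : Matrix ι ι F) *ᵥ y)) := by
    have := hk x ((lam : Matrix ι ι F) *ᵥ y)
    rwa [he x hx, he _ (h.lam4 hy)] at this
  have e2 : z = (lam : Matrix ι ι F) *ᵥ ((lam : Matrix ι ι F) *ᵥ y) + (-1 : F) • y := by
    rw [hz, neg_smul, one_smul, sub_eq_add_neg]
  rw [e2, h.form.add_right, h.form.smul_right, ← e1, h.iso]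
  ring

/-- an invariant subspace of `V4` which is not zero contains `C` -/
theorem ZData.C_le (h : ZData f g lam w V4 C t) {A : Submodule F (ι → F)} (hA4 : A ≤ V4) (hA0 : A ≠ ⊥)
    (hl : ∀ v ∈ A, (lam : Matrix ι ι F) *ᵥ v ∈ A) (hw : ∀ v ∈ A, (w : Matrix ι ι F) *ᵥ v ∈ A) : C ≤ A := by
  have hlC : ∀ v ∈ C, (lam : Matrix ι ι F) *ᵥ v ∈ C := by
    intro v hv
    rw [h.mem_C] at hv ⊢
    refine ⟨h.lam4 hv.1, ?_⟩
    rw [Matrix.mulVec_mulVec, ← Units.val_mul, ← h.lamw, Units.val_mul, ← Matrix.mulVec_mulVec, hv.2]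
  rcases h.C_irr (A ⊓ C) inf_le_right (fun v hv => ⟨hl v hv.1, hlC v hv.2⟩) with h1 | h1
  · exfalso
    obtain ⟨a, ha, ha0⟩ := (Submodule.ne_bot_iff _).1 hA0
    have h2 : (w : Matrix ι ι F) *ᵥ a - a ∈ A ⊓ C := ⟨A.sub_mem (hw a ha) ha, h.sub_mem a (hA4 ha)⟩
    rw [h1, Submodule.mem_bot, sub_eq_zero] at h2
    have h3 : a ∈ A ⊓ C := ⟨ha, (h.mem_C a).2 ⟨hA4 ha, h2⟩⟩
    rw [h1, Submodule.mem_bot] at h3
    exact ha0 h3
  · rw [← h1]
    exact inf_le_left

/-- **the z-lemma** -/
theorem ZData.not_field (h : ZData f g lam w V4 C t) {K : Subalgebra F (Matrix ι ι F)} (hK : IsFieldSubalgebra 2 K)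
    (hsa : IsSelfAdjointFor f K) (hg : g ∈ subalgebraNormalizer K) (hl : lam ∈ subalgebraNormalizer K)
    (hw : w ∈ subalgebraNormalizer K) : False := by
  have hgK : ∀ k ∈ K, (g : Matrix ι ι F) * k = k * (g : Matrix ι ι F) := fun k hk =>
    Cfsg.Agent.H906.Cov.commute_of_coprime hK hg h.odd k hk
  have hlK := comm_of_triv hK h.ne_one hgK hl h.lam_one
  have hwK := comm_of_triv hK h.ne_one hgK hw h.w_one
  -- the two eigenspaces
  have main : ∀ k ∈ K, k * k - t • k + 1 = 0 → C ≤ (LinearMap.ker (Matrix.toLin' k - Matrix.toLin' (lam : Matrix ι ι F))) := by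
    intro k hk hk2
    set A : Submodule F (ι → F) := V4 ⊓ LinearMap.ker (Matrix.toLin' k - Matrix.toLin' (lam : Matrix ι ι F)) with hA
    have memA : ∀ v, v ∈ A ↔ v ∈ V4 ∧ k *ᵥ v = (lam : Matrix ι ι F) *ᵥ v := by
      intro v
      rw [hA, Submodule.mem_inf, LinearMap.mem_ker, LinearMap.sub_apply, sub_eq_zero, Matrix.toLin'_apply,
        Matrix.toLin'_apply]
    have hA0 : A ≠ ⊥ := by
      intro hA0
      -- `t - k` agrees with `lam` on `V4`
      have h1 : ∀ v ∈ V4, k *ᵥ v - (t • v - (lam : Matrix ι ι F) *ᵥ v) = 0 := by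
        intro v hv
        have h2 : k *ᵥ v - (t • v - (lam : Matrix ι ι F) *ᵥ v) ∈ A := by
          rw [memA]
          refine ⟨V4.sub_mem (h.mem4 hv (hgK k hk)) (V4.sub_mem (V4.smul_mem t hv) (h.lam4 hv)), ?_⟩
          have e1 : k *ᵥ (k *ᵥ v) = t • (k *ᵥ v) - v := by
            have : (k * k - t • k + 1) *ᵥ v = 0 := by rw [hk2, Matrix.zero_mulVec]
            rw [Matrix.add_mulVec, Matrix.sub_mulVec, Matrix.one_mulVec, ← Matrix.mulVec_mulVec,
              Matrix.smul_mulVec] at this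
            rw [← sub_eq_zero, ← this]
            abel
          have e2 : (lam : Matrix ι ι F) *ᵥ (k *ᵥ v) = k *ᵥ ((lam : Matrix ι ι F) *ᵥ v) := by
            rw [Matrix.mulVec_mulVec, hlK k hk, ← Matrix.mulVec_mulVec]
          rw [Matrix.mulVec_sub, Matrix.mulVec_sub, Matrix.mulVec_smul, e1, Matrix.mulVec_sub, Matrix.mulVec_sub,
            Matrix.mulVec_smul, e2, h.lam_sq v hv]
          abel
        rw [hA0, Submodule.mem_bot] at h2
        exact h2
      refine h.not_eq (k := t • (1 : Matrix ι ι F) - k) ?_ ?_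
      · have h3 : t • (1 : Matrix ι ι F) - k ∈ K := K.sub_mem (K.smul_mem K.one_mem t) hk
        exact hsa _ h3
      · intro v hv
        have h3 := h1 v hv
        rw [Matrix.sub_mulVec, Matrix.smul_mulVec, Matrix.one_mulVec]
        rw [← sub_eq_zero, ← neg_eq_zero, ← h3]
        abel
    have hCA : C ≤ A := by
      apply h.C_le (fun v hv => ((memA v).1 hv).1) hA0
      · intro v hv
        rw [memA] at hv ⊢
        refine ⟨h.lam4 hv.1, ?_⟩
        rw [Matrix.mulVec_mulVec, ← hlK k hk, ← Matrix.mulVec_mulVec, hv.2]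
      · intro v hv
        rw [memA] at hv ⊢
        refine ⟨h.w4 hv.1, ?_⟩
        rw [Matrix.mulVec_mulVec, ← hwK k hk, ← Matrix.mulVec_mulVec, hv.2, Matrix.mulVec_mulVec, Matrix.mulVec_mulVec,
          ← Units.val_mul, ← Units.val_mul, h.lamw]
    exact hCA.trans inf_le_right
  obtain ⟨k, hk, hk2⟩ := exists_root hK h.irr
  have hk' : t • (1 : Matrix ι ι F) - k ∈ K := K.sub_mem (K.smul_mem K.one_mem t) hk
  have hk2' : (t • (1 : Matrix ι ι F) - k) * (t • (1 : Matrix ι ι F) - k) - t • (t • (1 : Matrix ι ι F) - k) + 1 = 0 := by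
    rw [← hk2]
    simp only [sub_mul, mul_sub, Matrix.smul_mul, Matrix.mul_smul, Matrix.one_mul, Matrix.mul_one, smul_sub]
    abel
  obtain ⟨v, hv, hv0⟩ := (Submodule.ne_bot_iff _).1 h.C_ne
  apply hv0
  have h1 := main k hk hk2 hv
  have h2 := main _ hk' hk2' hv
  rw [LinearMap.mem_ker, LinearMap.sub_apply, sub_eq_zero, Matrix.toLin'_apply, Matrix.toLin'_apply] at h1 h2
  rw [Matrix.sub_mulVec, Matrix.smul_mulVec, Matrix.one_mulVec, h1] at h2
  apply h.eq_zero ((h.mem_C v).1 hv).1 (a := 2) (b := t) h.two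
  rw [two_smul, ← sub_eq_iff_eq_add.1 h2]

end Z

end Cfsg.Agent.H248.Cov
end

-- part: H248/Cov/Blk
section
/-!
# S2499: block elements of `Sp_{2(k + l)}(q)` and the element `z` of `Sp_4(q)`
-/

set_option autoImplicit false
set_option linter.unusedSectionVars false

namespace Cfsg.Agent.H248.Cov

open Cfsg Cfsg.Geo Matrix Cfsg.Agent.ClassicalGeometry.SympBasic
open scoped MatrixGroups

universe u

section Blk

variable {F : Type u} [Field F] {k l : ℕ}

/-- splitting of the coordinates -/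
def E (k l : ℕ) : (Fin k ⊕ Fin k) ⊕ (Fin l ⊕ Fin l) ≃ Fin (k + l) ⊕ Fin (k + l) :=
  (Equiv.sumSumSumComm (Fin k) (Fin k) (Fin l) (Fin l)).trans (Equiv.sumCongr finSumFinEquiv finSumFinEquiv)

/-- first part of a vector -/
def p1 (v : Fin (k + l) ⊕ Fin (k + l) → F) : Fin k ⊕ Fin k → F := fun i => v (E k l (Sum.inl i))

/-- second part of a vector -/
def p2 (v : Fin (k + l) ⊕ Fin (k + l) → F) : Fin l ⊕ Fin l → F := fun i => v (E k l (Sum.inr i))

/-- joining vectors -/
def jn (a : Fin k ⊕ Fin k → F) (b : Fin l ⊕ Fin l → F) : Fin (k + l) ⊕ Fin (k + l) → F :=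
  Sum.elim a b ∘ (E k l).symm

@[simp] theorem p1_jn (a : Fin k ⊕ Fin k → F) (b : Fin l ⊕ Fin l → F) : p1 (jn a b) = a := by
  funext i
  simp [p1, jn]

@[simp] theorem p2_jn (a : Fin k ⊕ Fin k → F) (b : Fin l ⊕ Fin l → F) : p2 (jn a b) = b := by
  funext i
  simp [p2, jn]

theorem ext_p {u v : Fin (k + l) ⊕ Fin (k + l) → F} (h1 : p1 u = p1 v) (h2 : p2 u = p2 v) : u = v := by
  funext i
  obtain ⟨j, rfl⟩ := (E k l).surjective i
  rcases j with j | j
  · exact congrFun h1 j
  · exact congrFun h2 j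

@[simp] theorem p1_add (u v : Fin (k + l) ⊕ Fin (k + l) → F) : p1 (u + v) = p1 u + p1 v := rfl
@[simp] theorem p2_add (u v : Fin (k + l) ⊕ Fin (k + l) → F) : p2 (u + v) = p2 u + p2 v := rfl
@[simp] theorem p1_sub (u v : Fin (k + l) ⊕ Fin (k + l) → F) : p1 (u - v) = p1 u - p1 v := rfl
@[simp] theorem p2_sub (u v : Fin (k + l) ⊕ Fin (k + l) → F) : p2 (u - v) = p2 u - p2 v := rfl
@[simp] theorem p1_smul (c : F) (v : Fin (k + l) ⊕ Fin (k + l) → F) : p1 (c • v) = c • p1 v := rfl
@[simp] theorem p2_smul (c : F) (v : Fin (k + l) ⊕ Fin (k + l) → F) : p2 (c • v) = c • p2 v := rfl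
@[simp] theorem p1_zero : p1 (0 : Fin (k + l) ⊕ Fin (k + l) → F) = 0 := rfl
@[simp] theorem p2_zero : p2 (0 : Fin (k + l) ⊕ Fin (k + l) → F) = 0 := rfl

theorem form_eq (u v : Fin (k + l) ⊕ Fin (k + l) → F) :
    sympForm (k + l) F u v = sympForm k F (p1 u) (p1 v) + sympForm l F (p2 u) (p2 v) := by
  rw [sympForm_eq_sum, sympForm_eq_sum, sympForm_eq_sum, Fin.sum_univ_add]
  rfl

/-- block matrices -/
def blkM (k l : ℕ) (F : Type u) [Field F] :
    Matrix (Fin k ⊕ Fin k) (Fin k ⊕ Fin k) F × Matrix (Fin l ⊕ Fin l) (Fin l ⊕ Fin l) F →*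
      Matrix (Fin (k + l) ⊕ Fin (k + l)) (Fin (k + l) ⊕ Fin (k + l)) F where
  toFun x := (fromBlocks x.1 0 0 x.2).submatrix (E k l).symm (E k l).symm
  map_one' := by
    rw [Prod.fst_one, Prod.snd_one, fromBlocks_one, Matrix.submatrix_one_equiv]
  map_mul' x y := by
    rw [Matrix.submatrix_mul_equiv, fromBlocks_multiply]
    simp only [_root_.Prod.fst_mul, _root_.Prod.snd_mul, _root_.Matrix.mul_zero, _root_.add_zero, _root_.Matrix.zero_mul, _root_.zero_add]

/-- block matrices -/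
def blk (k l : ℕ) (F : Type u) [Field F] :
    GL (Fin k ⊕ Fin k) F × GL (Fin l ⊕ Fin l) F →* GL (Fin (k + l) ⊕ Fin (k + l)) F :=
  (Units.map (blkM k l F)).comp (MulEquiv.prodUnits.symm).toMonoidHom

theorem coe_blk (a : GL (Fin k ⊕ Fin k) F) (b : GL (Fin l ⊕ Fin l) F) :
    (blk k l F (a, b) : Matrix (Fin (k + l) ⊕ Fin (k + l)) (Fin (k + l) ⊕ Fin (k + l)) F) =
      (fromBlocks (a : Matrix (Fin k ⊕ Fin k) (Fin k ⊕ Fin k) F) 0 0 (b : Matrix (Fin l ⊕ Fin l) (Fin l ⊕ Fin l) F)).submatrix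
        (E k l).symm (E k l).symm := rfl

theorem blk_mulVec (a : GL (Fin k ⊕ Fin k) F) (b : GL (Fin l ⊕ Fin l) F) (v : Fin (k + l) ⊕ Fin (k + l) → F) :
    (blk k l F (a, b) : Matrix (Fin (k + l) ⊕ Fin (k + l)) (Fin (k + l) ⊕ Fin (k + l)) F) *ᵥ v =
      jn ((a : Matrix (Fin k ⊕ Fin k) (Fin k ⊕ Fin k) F) *ᵥ p1 v) ((b : Matrix (Fin l ⊕ Fin l) (Fin l ⊕ Fin l) F) *ᵥ p2 v) := by
  rw [coe_blk, Matrix.submatrix_mulVec_equiv, Equiv.symm_symm, fromBlocks_mulVec]
  simp only [Matrix.zero_mulVec, add_zero, zero_add]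
  rfl

@[simp] theorem p1_blk (a : GL (Fin k ⊕ Fin k) F) (b : GL (Fin l ⊕ Fin l) F) (v : Fin (k + l) ⊕ Fin (k + l) → F) :
    p1 ((blk k l F (a, b) : Matrix (Fin (k + l) ⊕ Fin (k + l)) (Fin (k + l) ⊕ Fin (k + l)) F) *ᵥ v) =
      (a : Matrix (Fin k ⊕ Fin k) (Fin k ⊕ Fin k) F) *ᵥ p1 v := by
  rw [blk_mulVec, p1_jn]

@[simp] theorem p2_blk (a : GL (Fin k ⊕ Fin k) F) (b : GL (Fin l ⊕ Fin l) F) (v : Fin (k + l) ⊕ Fin (k + l) → F) :
    p2 ((blk k l F (a, b) : Matrix (Fin (k + l) ⊕ Fin (k + l)) (Fin (k + l) ⊕ Fin (k + l)) F) *ᵥ v) =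
      (b : Matrix (Fin l ⊕ Fin l) (Fin l ⊕ Fin l) F) *ᵥ p2 v := by
  rw [blk_mulVec, p2_jn]

theorem mem_spGL {n : ℕ} {g : GL (Fin n ⊕ Fin n) F} :
    g ∈ spGL n F ↔ ∀ u v, sympForm n F ((g : Matrix (Fin n ⊕ Fin n) (Fin n ⊕ Fin n) F) *ᵥ u)
      ((g : Matrix (Fin n ⊕ Fin n) (Fin n ⊕ Fin n) F) *ᵥ v) = sympForm n F u v := Iff.rfl

theorem blk_mem {a : GL (Fin k ⊕ Fin k) F} {b : GL (Fin l ⊕ Fin l) F} (ha : a ∈ spGL k F) (hb : b ∈ spGL l F) :
    blk k l F (a, b) ∈ spGL (k + l) F := by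
  rw [mem_spGL] at ha hb ⊢
  intro u v
  rw [form_eq, p1_blk, p1_blk, p2_blk, p2_blk, ha, hb, ← form_eq]

theorem blk_injective : Function.Injective (blk k l F) := by
  rintro ⟨a, b⟩ ⟨a', b'⟩ h
  have h1 := congrArg Units.val h
  rw [coe_blk, coe_blk] at h1
  have h2 : fromBlocks (a : Matrix (Fin k ⊕ Fin k) (Fin k ⊕ Fin k) F) 0 0 (b : Matrix (Fin l ⊕ Fin l) (Fin l ⊕ Fin l) F) =
      fromBlocks (a' : Matrix (Fin k ⊕ Fin k) (Fin k ⊕ Fin k) F) 0 0 (b' : Matrix (Fin l ⊕ Fin l) (Fin l ⊕ Fin l) F) := by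
    have := congrArg (fun M => Matrix.submatrix M (E k l) (E k l)) h1
    simpa using this
  rw [fromBlocks_inj] at h2
  exact Prod.ext (Units.ext h2.1) (Units.ext h2.2.2.2)

end Blk

section Z4

variable {F : Type u} [Field F]

/-- a polynomial `X ^ 2 - t X + 1` without roots -/
theorem exists_t (F : Type u) [Field F] [Finite F] : ∃ t : F, ∀ c : F, c * c - t * c + 1 ≠ 0 := by
  have : Fintype F := Fintype.ofFinite F
  classical
  let φ : Fˣ → F := fun c => (c : F) + (c : F)⁻¹
  have h1 : ¬ Function.Surjective φ := by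
    intro hs
    have := Fintype.card_le_of_surjective φ hs
    rw [Fintype.card_units] at this
    have h2 := Fintype.card_pos (α := F)
    omega
  rw [Function.Surjective] at h1
  push Not at h1
  obtain ⟨t, ht⟩ := h1
  refine ⟨t, fun c hc => ?_⟩
  have hc0 : c ≠ 0 := by
    rintro rfl
    simp at hc
  apply ht (Units.mk0 c hc0)
  change c + c⁻¹ = t
  field_simp
  linear_combination hc

/-- the matrix of `lam` -/
def LM (t : F) : Matrix (Fin 2 ⊕ Fin 2) (Fin 2 ⊕ Fin 2) F := fromBlocks !![0, -1; 1, t] 0 0 !![t, -1; 1, 0]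

/-- the inverse of `lam` -/
def LMi (t : F) : Matrix (Fin 2 ⊕ Fin 2) (Fin 2 ⊕ Fin 2) F := fromBlocks !![t, 1; -1, 0] 0 0 !![0, 1; -1, t]

/-- the matrix of `w` -/
def UM (t : F) : Matrix (Fin 2 ⊕ Fin 2) (Fin 2 ⊕ Fin 2) F := fromBlocks 1 !![2, -t; -t, 2] 0 1

/-- the inverse of `w` -/
def UMi (t : F) : Matrix (Fin 2 ⊕ Fin 2) (Fin 2 ⊕ Fin 2) F := fromBlocks 1 !![-2, t; t, -2] 0 1

theorem LM_mul (t : F) : LM t * LMi t = 1 := by
  rw [LM, LMi, fromBlocks_multiply]
  simp [← Matrix.one_fin_two]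

theorem LMi_mul (t : F) : LMi t * LM t = 1 := by
  rw [LM, LMi, fromBlocks_multiply]
  simp [← Matrix.one_fin_two]

theorem UM_mul (t : F) : UM t * UMi t = 1 := by
  rw [UM, UMi, fromBlocks_multiply]
  simp [← Matrix.ext_iff]

theorem UMi_mul (t : F) : UMi t * UM t = 1 := by
  rw [UM, UMi, fromBlocks_multiply]
  simp [← Matrix.ext_iff]

/-- the element `lam` of `Sp_4(q)` -/
def L4 (t : F) : GL (Fin 2 ⊕ Fin 2) F := ⟨LM t, LMi t, LM_mul t, LMi_mul t⟩

/-- the element `w` of `Sp_4(q)` -/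
def U4 (t : F) : GL (Fin 2 ⊕ Fin 2) F := ⟨UM t, UMi t, UM_mul t, UMi_mul t⟩

theorem L4_mulVec (t : F) (v : Fin 2 ⊕ Fin 2 → F) :
    (L4 t : Matrix (Fin 2 ⊕ Fin 2) (Fin 2 ⊕ Fin 2) F) *ᵥ v =
      Sum.elim ![- v (Sum.inl 1), v (Sum.inl 0) + t * v (Sum.inl 1)] ![t * v (Sum.inr 0) - v (Sum.inr 1), v (Sum.inr 0)] := by
  change LM t *ᵥ v = _
  rw [LM, fromBlocks_mulVec]
  funext i
  rcases i with i | i <;> (revert i; simp [Matrix.mulVec, dotProduct, Fin.sum_univ_two, _root_.Fin.forall_fin_succ]) <;> (repeat' with_reducible apply And.intro)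
  ring

theorem U4_mulVec (t : F) (v : Fin 2 ⊕ Fin 2 → F) :
    (U4 t : Matrix (Fin 2 ⊕ Fin 2) (Fin 2 ⊕ Fin 2) F) *ᵥ v =
      Sum.elim ![v (Sum.inl 0) + (2 * v (Sum.inr 0) - t * v (Sum.inr 1)),
        v (Sum.inl 1) + (2 * v (Sum.inr 1) - t * v (Sum.inr 0))] ![v (Sum.inr 0), v (Sum.inr 1)] := by
  change UM t *ᵥ v = _
  rw [UM, fromBlocks_mulVec]
  funext i
  rcases i with i | i <;> (revert i; simp only [dotProduct, Fin.sum_univ_two, Matrix.vecHead, Matrix.vecTail, _root_.Fin.forall_fin_succ, _root_.Matrix.one_mulVec, _root_.Matrix.cons_mulVec, _root_.Function.comp_apply, Fin.isValue, _root_.Matrix.cons_val_zero, _root_.Matrix.cons_val_one, _root_.Matrix.cons_val_fin_one, _root_.neg_mul, _root_.Matrix.empty_mulVec, _root_.Matrix.add_cons, _root_.Nat.succ_eq_add_one, Nat.reduceAdd, _root_.Fin.succ_zero_eq_one, _root_.Matrix.empty_add_empty, _root_.Matrix.zero_mulVec, _root_.zero_add, _root_.Sum.elim_inl, _root_.add_right_inj, _root_.Matrix.cons_val_succ,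 _root_.forall_const, _root_.Sum.elim_inr, _root_.IsEmpty.forall_iff, _root_.and_true, _root_.true_and]) <;> (repeat' with_reducible apply And.intro)
  all_goals ring

theorem form4 (u v : Fin 2 ⊕ Fin 2 → F) : sympForm 2 F u v =
    (u (Sum.inr 0) * v (Sum.inl 0) - u (Sum.inl 0) * v (Sum.inr 0)) +
      (u (Sum.inr 1) * v (Sum.inl 1) - u (Sum.inl 1) * v (Sum.inr 1)) := by
  rw [sympForm_eq_sum, Fin.sum_univ_two]

theorem L4_mem (t : F) : L4 t ∈ spGL 2 F := by
  rw [mem_spGL]
  intro u v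
  rw [form4, form4, L4_mulVec, L4_mulVec]
  simp only [_root_.Nat.succ_eq_add_one, _root_.Nat.reduceAdd, _root_.Fin.isValue, _root_.Sum.elim_inr, _root_.Matrix.cons_val_zero, _root_.Sum.elim_inl, _root_.mul_neg, _root_.neg_mul, _root_.sub_neg_eq_add, _root_.Matrix.cons_val_one, _root_.Matrix.cons_val_fin_one]
  ring

theorem U4_mem (t : F) : U4 t ∈ spGL 2 F := by
  rw [mem_spGL]
  intro u v
  rw [form4, form4, U4_mulVec, U4_mulVec]
  simp only [_root_.Nat.succ_eq_add_one, _root_.Nat.reduceAdd, _root_.Fin.isValue, _root_.Sum.elim_inr, _root_.Matrix.cons_val_zero, _root_.Sum.elim_inl, _root_.Matrix.cons_val_one, _root_.Matrix.cons_val_fin_one]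
  ring

theorem eq_of_mulVec {ι : Type} [Fintype ι] [DecidableEq ι] {x y : GL ι F}
    (h : ∀ v, (x : Matrix ι ι F) *ᵥ v = (y : Matrix ι ι F) *ᵥ v) : x = y := by
  apply Units.ext
  apply Matrix.toLin'.injective
  apply LinearMap.ext
  intro v
  rw [Matrix.toLin'_apply, Matrix.toLin'_apply, h]

theorem ext4 {u v : Fin 2 ⊕ Fin 2 → F} (h1 : u (Sum.inl 0) = v (Sum.inl 0)) (h2 : u (Sum.inl 1) = v (Sum.inl 1))
    (h3 : u (Sum.inr 0) = v (Sum.inr 0)) (h4 : u (Sum.inr 1) = v (Sum.inr 1)) : u = v := by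
  funext i
  rcases i with i | i <;> fin_cases i
  · exact h1
  · exact h2
  · exact h3
  · exact h4

theorem L4_U4 (t : F) : L4 t * U4 t = U4 t * L4 t := by
  apply eq_of_mulVec
  intro v
  rw [Units.val_mul, Units.val_mul, ← Matrix.mulVec_mulVec, ← Matrix.mulVec_mulVec, L4_mulVec, U4_mulVec, L4_mulVec,
    U4_mulVec]
  apply ext4 <;> simp only [_root_.Nat.succ_eq_add_one, _root_.Nat.reduceAdd, _root_.Fin.isValue, _root_.Sum.elim_inl, _root_.Matrix.cons_val_one, _root_.Matrix.cons_val_fin_one, _root_.neg_add_rev, _root_.neg_sub, _root_.Matrix.cons_val_zero, _root_.Sum.elim_inr]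
  all_goals ring

theorem L4_sq (t : F) (v : Fin 2 ⊕ Fin 2 → F) :
    (L4 t : Matrix (Fin 2 ⊕ Fin 2) (Fin 2 ⊕ Fin 2) F) *ᵥ ((L4 t : Matrix (Fin 2 ⊕ Fin 2) (Fin 2 ⊕ Fin 2) F) *ᵥ v) =
      t • ((L4 t : Matrix (Fin 2 ⊕ Fin 2) (Fin 2 ⊕ Fin 2) F) *ᵥ v) - v := by
  rw [L4_mulVec, L4_mulVec]
  apply ext4 <;> simp only [_root_.Nat.succ_eq_add_one, _root_.Nat.reduceAdd, _root_.Fin.isValue, _root_.Sum.elim_inl, _root_.Matrix.cons_val_one, _root_.Matrix.cons_val_fin_one, _root_.neg_add_rev, _root_.Matrix.cons_val_zero, _root_.Sum.elim_inr, _root_.Pi.sub_apply, _root_.Pi.smul_apply, _root_.smul_eq_mul, _root_.mul_neg]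
  all_goals ring

theorem four_sub {t : F} (h2 : (2 : F) ≠ 0) (ht : ∀ c : F, c * c - t * c + 1 ≠ 0) : 4 - t * t ≠ 0 := by
  intro h
  apply ht (t / 2)
  field_simp
  linear_combination h

theorem U4_fix {t : F} (h2 : (2 : F) ≠ 0) (ht : ∀ c : F, c * c - t * c + 1 ≠ 0) (v : Fin 2 ⊕ Fin 2 → F) :
    (U4 t : Matrix (Fin 2 ⊕ Fin 2) (Fin 2 ⊕ Fin 2) F) *ᵥ v = v ↔ v (Sum.inr 0) = 0 ∧ v (Sum.inr 1) = 0 := by
  rw [U4_mulVec]
  constructor
  · intro h
    have h3 := congrFun h (Sum.inl 0)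
    have h4 := congrFun h (Sum.inl 1)
    simp at h3 h4
    have h5 := four_sub h2 ht
    constructor
    · apply (mul_eq_zero.1 (show (4 - t * t) * v (Sum.inr 0) = 0 by linear_combination 2 * h3 + t * h4)).resolve_left h5
    · apply (mul_eq_zero.1 (show (4 - t * t) * v (Sum.inr 1) = 0 by linear_combination t * h3 + 2 * h4)).resolve_left h5
  · rintro ⟨h3, h4⟩
    apply ext4 <;> simp [h3, h4]

theorem U4_sub (t : F) (v : Fin 2 ⊕ Fin 2 → F) :
    ((U4 t : Matrix (Fin 2 ⊕ Fin 2) (Fin 2 ⊕ Fin 2) F) *ᵥ v - v) (Sum.inr 0) = 0 ∧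
      ((U4 t : Matrix (Fin 2 ⊕ Fin 2) (Fin 2 ⊕ Fin 2) F) *ᵥ v - v) (Sum.inr 1) = 0 := by
  rw [U4_mulVec]
  simp

/-- `lam` is irreducible on the fixed space of `w` -/
theorem irr4 {t : F} (ht : ∀ c : F, c * c - t * c + 1 ≠ 0) {v : Fin 2 ⊕ Fin 2 → F} (hv0 : v ≠ 0)
    (h3 : v (Sum.inr 0) = 0) (h4 : v (Sum.inr 1) = 0) (x : Fin 2 ⊕ Fin 2 → F) (x3 : x (Sum.inr 0) = 0)
    (x4 : x (Sum.inr 1) = 0) : ∃ a b : F, x = a • v + b • ((L4 t : Matrix (Fin 2 ⊕ Fin 2) (Fin 2 ⊕ Fin 2) F) *ᵥ v) := by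
  set a := v (Sum.inl 0) with ha
  set b := v (Sum.inl 1) with hb
  have hD : a * a + t * a * b + b * b ≠ 0 := by
    intro h
    by_cases hb0 : b = 0
    · rw [hb0] at h
      have ha0 : a = 0 := by
        have : a * a = 0 := by linear_combination h
        exact mul_self_eq_zero.1 this
      apply hv0
      apply ext4
      · exact ha0
      · exact hb0
      · exact h3
      · exact h4
    · apply ht (-(a / b))
      field_simp
      linear_combination h
  obtain ⟨e, he⟩ : ∃ e, (a * a + t * a * b + b * b) * e = 1 := ⟨_, mul_inv_cancel₀ hD⟩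
  refine ⟨(x (Sum.inl 0) * (a + t * b) + x (Sum.inl 1) * b) * e,
    (x (Sum.inl 1) * a - x (Sum.inl 0) * b) * e, ?_⟩
  rw [L4_mulVec]
  apply ext4
  · change x (Sum.inl 0) = (x (Sum.inl 0) * (a + t * b) + x (Sum.inl 1) * b) * e * a +
      (x (Sum.inl 1) * a - x (Sum.inl 0) * b) * e * (-b)
    linear_combination (-x (Sum.inl 0)) * he
  · change x (Sum.inl 1) = (x (Sum.inl 0) * (a + t * b) + x (Sum.inl 1) * b) * e * b +
      (x (Sum.inl 1) * a - x (Sum.inl 0) * b) * e * (a + t * b)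
    linear_combination (-x (Sum.inl 1)) * he
  · simp [h3, h4, x3]
  · simp [h3, h4, x4]

end Z4

section Main

variable {F : Type u} [Field F] [Finite F] {k : ℕ}

/-- the space `V4` -/
def V4 (k : ℕ) (F : Type u) [Field F] : Submodule F (Fin (k + 2) ⊕ Fin (k + 2) → F) where
  carrier := {v | p1 v = 0}
  add_mem' := fun {a b} ha hb => by
    change p1 (a + b) = 0
    rw [p1_add, show p1 a = 0 from ha, show p1 b = 0 from hb, add_zero]
  zero_mem' := rfl
  smul_mem' := fun c v hv => by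
    change p1 (c • v) = 0
    rw [p1_smul, show p1 v = 0 from hv, smul_zero]

theorem mem_V4 {v : Fin (k + 2) ⊕ Fin (k + 2) → F} : v ∈ V4 k F ↔ p1 v = 0 := Iff.rfl

/-- the space `C` -/
def C2 (k : ℕ) (F : Type u) [Field F] : Submodule F (Fin (k + 2) ⊕ Fin (k + 2) → F) where
  carrier := {v | p1 v = 0 ∧ p2 v (Sum.inr 0) = 0 ∧ p2 v (Sum.inr 1) = 0}
  add_mem' := fun {a b} ha hb => by
    refine ⟨?_, ?_, ?_⟩
    · rw [p1_add, ha.1, hb.1, add_zero]
    · rw [p2_add, Pi.add_apply, ha.2.1, hb.2.1, add_zero]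
    · rw [p2_add, Pi.add_apply, ha.2.2, hb.2.2, add_zero]
  zero_mem' := ⟨rfl, rfl, rfl⟩
  smul_mem' := fun c v hv => by
    refine ⟨?_, ?_, ?_⟩
    · rw [p1_smul, hv.1, smul_zero]
    · rw [p2_smul, Pi.smul_apply, hv.2.1, smul_zero]
    · rw [p2_smul, Pi.smul_apply, hv.2.2, smul_zero]

theorem mem_C2 {v : Fin (k + 2) ⊕ Fin (k + 2) → F} :
    v ∈ C2 k F ↔ p1 v = 0 ∧ p2 v (Sum.inr 0) = 0 ∧ p2 v (Sum.inr 1) = 0 := Iff.rfl

/-- `f` vanishes on `C` -/
theorem C2_ts {u v : Fin (k + 2) ⊕ Fin (k + 2) → F} (hu : u ∈ C2 k F) (hv : v ∈ C2 k F) :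
    sympForm (k + 2) F u v = 0 := by
  rw [form_eq, hu.1, hv.1, sympForm_zero_left, form4, hu.2.1, hu.2.2, hv.2.1, hv.2.2]
  ring

/-- **the data of the z-lemma in `Sp_{2(k+2)}(q)`** -/
theorem zdata {a : GL (Fin k ⊕ Fin k) F} (h2 : (2 : F) ≠ 0) (hao : Odd (orderOf a)) (ha1 : a ≠ 1)
    (hfix : ∀ v, (a : Matrix (Fin k ⊕ Fin k) (Fin k ⊕ Fin k) F) *ᵥ v = v → v = 0) {t : F}
    (ht : ∀ c : F, c * c - t * c + 1 ≠ 0) :
    ZData (sympForm (k + 2) F) (blk k 2 F (a, 1)) (blk k 2 F (1, L4 t)) (blk k 2 F (1, U4 t)) (V4 k F) (C2 k F) t where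
  two := h2
  form := ⟨fun x y v => sympForm_add_left x y v, fun c x v => sympForm_smul_left c x v,
    fun v x y => sympForm_add_right v x y, fun c v x => sympForm_smul_right c v x⟩
  odd := by
    have h1 : orderOf (blk k 2 F (a, 1)) = orderOf a := by
      rw [orderOf_injective _ blk_injective, Prod.orderOf_mk, orderOf_one, Nat.lcm_one_right]
    rw [h1]
    exact Nat.coprime_two_right.2 hao
  ne_one := by
    intro h
    apply ha1
    have h1 : blk k 2 F (a, 1) = blk k 2 F (1, 1) := by rw [h]; exact (map_one (blk k 2 F)).symm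
    exact congrArg Prod.fst (blk_injective h1)
  fix := fun v => by
    rw [mem_V4]
    constructor
    · intro h
      apply ext_p
      · rw [p1_blk, h, Matrix.mulVec_zero]
      · rw [p2_blk, Units.val_one, Matrix.one_mulVec]
    · intro h
      apply hfix
      rw [← p1_blk a 1, h]
  lam_one := fun v => by
    apply ext_p
    · rw [p1_blk, Units.val_one, Matrix.one_mulVec]
    · rw [p2_blk, p2_sub, p2_blk, Units.val_one, Matrix.one_mulVec, sub_self, Matrix.mulVec_zero]
  w_one := fun v => by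
    apply ext_p
    · rw [p1_blk, Units.val_one, Matrix.one_mulVec]
    · rw [p2_blk, p2_sub, p2_blk, Units.val_one, Matrix.one_mulVec, sub_self, Matrix.mulVec_zero]
  glam := by
    rw [← map_mul, ← map_mul]
    simp
  gw := by
    rw [← map_mul, ← map_mul]
    simp
  lamw := by
    rw [← map_mul, ← map_mul, Prod.mk_mul_mk, Prod.mk_mul_mk, L4_U4]
  irr := ht
  lam_sq := fun v hv => by
    rw [mem_V4] at hv
    apply ext_p
    · rw [p1_sub, p1_smul, p1_blk, p1_blk, hv]
      simp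
    · rw [p2_sub, p2_smul, p2_blk, p2_blk, L4_sq]
  iso := mem_spGL.1 (blk_mem (Subgroup.one_mem _) (L4_mem t))
  nd := fun v hv hv0 => by
    rw [mem_V4] at hv
    by_contra hcon
    push Not at hcon
    apply hv0
    apply ext_p
    · rw [hv, p1_zero]
    · rw [p2_zero]
      apply eq_zero_of_forall_sympForm_left
      intro u
      have h1 := hcon (jn 0 u) (by rw [mem_V4, p1_jn])
      rwa [form_eq, p1_jn, p2_jn, sympForm_zero_left, zero_add] at h1
  mem_C := fun v => by
    rw [mem_C2, mem_V4]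
    constructor
    · rintro ⟨h1, h3⟩
      refine ⟨h1, ext_p ?_ ?_⟩
      · rw [p1_blk, Units.val_one, Matrix.one_mulVec]
      · rw [p2_blk]
        exact (U4_fix h2 ht _).2 h3
    · rintro ⟨h1, h3⟩
      refine ⟨h1, (U4_fix h2 ht _).1 ?_⟩
      rw [← p2_blk 1, h3]
  sub_mem := fun v hv => by
    rw [mem_V4] at hv
    refine ⟨?_, ?_⟩
    · rw [p1_sub, p1_blk, hv, Matrix.mulVec_zero, sub_zero]
    · have h1 := U4_sub t (p2 v)
      rw [p2_sub, p2_blk]
      exact h1
  C_ne := by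
    intro h
    have h1 : (jn 0 (Pi.single (Sum.inl 0) 1) : Fin (k + 2) ⊕ Fin (k + 2) → F) ∈ C2 k F := by
      refine ⟨p1_jn _ _, ?_, ?_⟩
      · rw [p2_jn]; simp
      · rw [p2_jn]; simp
    rw [h, Submodule.mem_bot] at h1
    have h3 := congrArg p2 h1
    rw [p2_jn, p2_zero] at h3
    have := congrFun h3 (Sum.inl 0)
    simp at this
  V4_ne := by
    intro h
    have h1 : (jn 0 (Pi.single (Sum.inl 0) 1) : Fin (k + 2) ⊕ Fin (k + 2) → F) ∈ V4 k F := by
      rw [mem_V4, p1_jn]
    rw [h, Submodule.mem_bot] at h1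
    have h3 := congrArg p2 h1
    rw [p2_jn, p2_zero] at h3
    have := congrFun h3 (Sum.inl 0)
    simp at this
  C_irr := fun W hW hl => by
    by_cases hW0 : W = ⊥
    · exact Or.inl hW0
    · right
      obtain ⟨v, hv, hv0⟩ := (Submodule.ne_bot_iff _).1 hW0
      obtain ⟨c1, c2, c3⟩ := hW hv
      have hp0 : p2 v ≠ 0 := by
        intro h
        apply hv0
        apply ext_p
        · rw [c1, p1_zero]
        · rw [h, p2_zero]
      refine le_antisymm hW fun x hx => ?_
      obtain ⟨x1, x2, x3⟩ := hx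
      obtain ⟨α, β, hab⟩ := irr4 ht hp0 c2 c3 (p2 x) x2 x3
      have h1 : x = α • v + β • ((blk k 2 F (1, L4 t) : Matrix (Fin (k + 2) ⊕ Fin (k + 2)) (Fin (k + 2) ⊕ Fin (k + 2)) F) *ᵥ v) := by
        apply ext_p
        · rw [x1, p1_add, p1_smul, p1_smul, p1_blk, c1]
          simp
        · rw [hab, p2_add, p2_smul, p2_smul, p2_blk]
      rw [h1]
      exact W.add_mem (W.smul_mem _ hv) (W.smul_mem _ (hl v hv))

end Main

end Cfsg.Agent.H248.Cov
end

private theorem dce_649abe35becf : _root_.True := by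
  try have : _root_.True := by simp only [_root_.Cfsg.Agent.H248.Cov.LM.eq_1]
  try have : _root_.True := by simp only [_root_.Cfsg.Agent.H248.Cov.jn.eq_1]
  try have : _root_.True := by simp only [_root_.Cfsg.Agent.H248.Cov.UM.eq_1]
  try have : _root_.True := by simp only [_root_.Cfsg.Agent.H248.Cov.UMi.eq_1]
  try have : _root_.True := by simp only [_root_.Cfsg.Agent.H248.Cov.p2.eq_1]
  try have : _root_.True := by simp only [_root_.Cfsg.Agent.H248.Cov.p1.eq_1]
  try have : _root_.True := by simp only [_root_.Cfsg.Agent.H248.Cov.LMi.eq_1]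
  exact _root_.True.intro
end

-- part: H659/CovCore
section
prune_inst 0x14060602002020800008002102000000800040000630400ed800a400a01e943054007411620001219e210a05008002002100009021000000000340040030020808242002240000026001f008880000000000000000000000000000000000000000000000
set_option linter.all false
open scoped Cfsg.Agent.FastGrp

/-!
# S2499, tasks OG-Sp, OG-SU, OG-O: the common core

`core` : an irreducible subgroup `H` of `GL ι F` which contains an element of the primitive part of `q ^ k - 1`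
(`Num`) normalises a field of matrices of prime degree dividing `gcd (|ι|, k)`, or contains `SL`, or all isometries
of a symplectic form, or all isometries of determinant one of a unitary form, or `Ω` of a quadratic form.
The subfield groups are excluded by `Num.sub`. The overgroup theorem `S5948` enters as the hypothesis `S5948Stmt`,
and the statement is transported from `Fin n` to an arbitrary index type.
-/

set_option autoImplicit false

namespace Cfsg.Agent.H659.CovCore

open Cfsg Cfsg.Geo Cfsg.Agent.H278.Cov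
open scoped MatrixGroups Matrix

universe u

/-- the text of `S5948` (overgroups of elements of large primitive-prime-divisor order) -/
def S5948Stmt : Prop :=
  ∀ {F : Type u} [Field F] [Fintype F] {q : ℕ}
    (_hF : Fintype.card F = q) (n k : ℕ) (_hn : 10 ≤ n) (_hk : n < 2 * k) (g : GL (Fin n) F)
    (_hg1 : 2 * k + 1 < orderOf g) (_hg2 : orderOf g ∣ q ^ k - 1)
    (_hg3 : ∀ i : ℕ, 1 ≤ i → i < k → Nat.Coprime (orderOf g) (q ^ i - 1))
    (H : Subgroup (GL (Fin n) F)) (_hgH : g ∈ H) (_hirr : Cfsg.Geo.ActsIrreducibly (Cfsg.Geo.matrixSet H)),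
    (∃ (F₀ : Subfield F) (r : ℕ) (P : GL (Fin n) F), r.Prime ∧ Fintype.card F = Nat.card F₀ ^ r ∧ H ≤ Cfsg.Geo.subfieldSubgroup F₀ P) ∨
    (∃ (r : ℕ) (E : Subalgebra F (Matrix (Fin n) (Fin n) F)), r.Prime ∧ r ∣ Nat.gcd n k ∧ Cfsg.Geo.IsFieldSubalgebra r E ∧
        H ≤ Cfsg.Geo.subalgebraNormalizer E) ∨
    Cfsg.Geo.specialLinear (Fin n) F ≤ H ∨
    (∃ f : (Fin n → F) → (Fin n → F) → F, Cfsg.Geo.IsSymplecticForm f ∧
        ∀ x : GL (Fin n) F, Cfsg.Geo.FixesForm {(x : Matrix (Fin n) (Fin n) F)} f → x ∈ H) ∨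
    (∃ (τ : F ≃+* F) (f : (Fin n → F) → (Fin n → F) → F), Cfsg.Geo.IsUnitaryForm τ f ∧
        ∀ x : GL (Fin n) F, Cfsg.Geo.FixesForm {(x : Matrix (Fin n) (Fin n) F)} f → Matrix.GeneralLinearGroup.det x = 1 → x ∈ H) ∨
    (∃ Q : (Fin n → F) → F, Cfsg.Geo.IsNondegenerateQuadraticForm Q ∧ Cfsg.Geo.omegaGL Q ≤ H)

/-! ### the subfield groups -/

theorem card_sup_dvd {G : Type*} [Group G] (A B : Subgroup G) [B.Normal] :
    Nat.card (A ⊔ B : Subgroup G) ∣ Nat.card A * Nat.card B := by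
  have h1 : (⊥ : Subgroup G).relIndex B * B.relIndex (A ⊔ B) = (⊥ : Subgroup G).relIndex (A ⊔ B) :=
    Subgroup.relIndex_mul_relIndex _ _ _ bot_le le_sup_right
  rw [Subgroup.relIndex_bot_left, Subgroup.relIndex_bot_left, Subgroup.relIndex_sup_right] at h1
  rw [← h1, mul_comm]
  exact Nat.mul_dvd_mul_right (Subgroup.relIndex_dvd_card B A) _

/-- a prime dividing the order of a subfield group divides `q - 1`, or `q₀`, or some `q₀ ^ j - 1` -/
theorem prime_dvd_subfield {F : Type u} [Field F] [Fintype F] {n : ℕ} (F₀ : Subfield F) (P : GL (Fin n) F)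
    {l : ℕ} (hl : l.Prime) (hd : l ∣ Nat.card (subfieldSubgroup F₀ P)) :
    l ∣ Fintype.card F - 1 ∨ l ∣ Nat.card F₀ ∨ ∃ j : ℕ, 1 ≤ j ∧ j ≤ n ∧ l ∣ Nat.card F₀ ^ j - 1 := by
  classical
  have h1 : Nat.card (subfieldSubgroup F₀ P) ∣ Nat.card
      ((Matrix.GeneralLinearGroup.map (n := Fin n) (F₀.subtype : F₀ →+* F)).range ⊔ scalars (Fin n) F :
        Subgroup (GL (Fin n) F)) := Subgroup.card_map_dvd _ _
  have h2 := (hd.trans h1).trans (card_sup_dvd _ _)
  rcases (hl.dvd_mul).1 h2 with h3 | h3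
  · have h4 : Nat.card (Matrix.GeneralLinearGroup.map (n := Fin n) (F₀.subtype : F₀ →+* F)).range ∣
        Nat.card (GL (Fin n) F₀) := Subgroup.card_range_dvd _
    have h5 := h3.trans h4
    rw [Matrix.card_GL_field] at h5
    obtain ⟨i, -, hi⟩ := (Prime.dvd_finsetProd_iff (Nat.prime_iff.1 hl) _).1 h5
    have h6 : Fintype.card F₀ ^ n - Fintype.card F₀ ^ (i : ℕ) =
        Fintype.card F₀ ^ (i : ℕ) * (Fintype.card F₀ ^ (n - i) - 1) := by
      rw [Nat.mul_sub, ← pow_add, mul_one, Nat.add_sub_cancel' i.2.le]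
    rw [h6] at hi
    rw [Nat.card_eq_fintype_card]
    rcases (hl.dvd_mul).1 hi with h7 | h7
    · exact Or.inr (Or.inl (hl.dvd_of_dvd_pow h7))
    · exact Or.inr (Or.inr ⟨n - i, by have := i.2; omega, by omega, h7⟩)
  · have h4 : Nat.card (scalars (Fin n) F) ∣ Nat.card Fˣ := Subgroup.card_range_dvd _
    have h5 := h3.trans h4
    rw [Nat.card_units, Nat.card_eq_fintype_card] at h5
    exact Or.inl h5

theorem not_subfield {F : Type u} [Field F] [Fintype F] {n k m : ℕ} (hnum : Num (Fintype.card F) n k m)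
    {H : Subgroup (GL (Fin n) F)} {g : GL (Fin n) F} (hg : g ∈ H) (hm : orderOf g = m)
    {F₀ : Subfield F} {r : ℕ} {P : GL (Fin n) F} (hr : r.Prime) (hc : Fintype.card F = Nat.card F₀ ^ r)
    (hle : H ≤ subfieldSubgroup F₀ P) : False := by
  obtain ⟨l, hl, hlm, hl2⟩ := hnum.sub
  have hk1 : 1 < k := by have := hnum.ten; have := hnum.lt; omega
  have h1 : l ∣ Nat.card (subfieldSubgroup F₀ P) := by
    refine hlm.trans ?_
    rw [← hm, ← Subgroup.orderOf_mk g (hle hg)]
    exact orderOf_dvd_natCard _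
  have h0 : l ∣ Fintype.card F ^ k - 1 := hlm.trans hnum.dvd
  have hq1 : 1 ≤ Fintype.card F := Fintype.card_pos
  rcases prime_dvd_subfield F₀ P hl h1 with h2 | h2 | ⟨j, hj1, hj2, h2⟩
  · have h3 := hnum.prim 1 le_rfl hk1
    rw [pow_one] at h3
    exact hl.one_lt.ne' (Nat.dvd_one.1 (by rw [← h3]; exact Nat.dvd_gcd hlm h2))
  · have h3 : l ∣ Fintype.card F ^ k := by
      rw [hc, ← pow_mul]
      exact dvd_pow h2 (by have := hr.pos; positivity)
    have h4 : 1 ≤ Fintype.card F ^ k := Nat.one_le_pow _ _ hq1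
    have h5 := (Nat.dvd_sub h3 h0)
    rw [Nat.sub_sub_self h4] at h5
    exact hl.one_lt.ne' (Nat.dvd_one.1 h5)
  · exact hl2 _ r hr hc j hj1 hj2 h2

/-! ### transport to `Fin n` -/

section Transport

variable {ι κ : Type} [Fintype ι] [DecidableEq ι] [Fintype κ] [DecidableEq κ] {F : Type u} [Field F]

/-- reindexing of the vectors -/
def vecEquiv (F : Type u) [Field F] (e : ι ≃ κ) : (ι → F) ≃ₗ[F] (κ → F) := LinearEquiv.funCongrLeft F F e.symm

theorem vecEquiv_mulVec (e : ι ≃ κ) (M : Matrix ι ι F) (v : ι → F) :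
    vecEquiv F e (M *ᵥ v) = (Matrix.reindexAlgEquiv F F e M) *ᵥ vecEquiv F e v := by
  ext i
  simp only [vecEquiv, LinearEquiv.funCongrLeft_apply, LinearMap.funLeft_apply, Matrix.mulVec, dotProduct,
    Matrix.coe_reindexAlgEquiv, Matrix.reindex_apply, Matrix.submatrix_apply]
  exact (Equiv.sum_comp e.symm (fun j => M (e.symm i) j * v j)).symm

theorem glReindex_coe (e : ι ≃ κ) (x : GL ι F) :
    ((glReindex e x : GL κ F) : Matrix κ κ F) = Matrix.reindexAlgEquiv F F e (x : Matrix ι ι F) := rfl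

theorem vecEquiv_gl (e : ι ≃ κ) (x : GL ι F) (v : ι → F) :
    vecEquiv F e ((x : Matrix ι ι F) *ᵥ v) = ((glReindex e x : GL κ F) : Matrix κ κ F) *ᵥ vecEquiv F e v := by
  rw [glReindex_coe, vecEquiv_mulVec]

theorem det_glReindex (e : ι ≃ κ) (x : GL ι F) :
    Matrix.GeneralLinearGroup.det (glReindex e x : GL κ F) = Matrix.GeneralLinearGroup.det x := by
  apply Units.ext
  change Matrix.det (Matrix.reindexAlgEquiv F F e (x : Matrix ι ι F)) = Matrix.det (x : Matrix ι ι F)
  exact Matrix.det_reindexAlgEquiv F F e _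

theorem mem_of_map {e : ι ≃ κ} {H : Subgroup (GL ι F)} {x : GL ι F}
    (h : (glReindex e x : GL κ F) ∈ H.map (glReindex (F := F) e).toMonoidHom) : x ∈ H := by
  obtain ⟨y, hy, hyx⟩ := h
  have : y = x := (glReindex (F := F) e).injective hyx
  rwa [← this]

theorem irr_transport (e : ι ≃ κ) {H : Subgroup (GL ι F)} (hirr : ¬ Red H) :
    ActsIrreducibly (matrixSet (H.map (glReindex (F := F) e).toMonoidHom)) := by
  intro W hW
  by_contra hcon
  rw [not_or] at hcon
  apply hirr
  have key : ∀ h ∈ H, ∀ w ∈ W, ((glReindex e h : GL κ F) : Matrix κ κ F) *ᵥ w ∈ W := by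
    intro h hh w hw
    have := hW ((glReindex e h : GL κ F) : Matrix κ κ F) ⟨glReindex e h, ⟨h, hh, rfl⟩, rfl⟩
    have h2 := this (Submodule.mem_map_of_mem hw)
    rwa [Matrix.toLin'_apply] at h2
  refine ⟨W.comap (vecEquiv F e).toLinearMap, ?_, ?_, ?_⟩
  · intro h0
    apply hcon.1
    rw [eq_bot_iff]
    intro w hw
    have h1 : (vecEquiv F e).symm w ∈ W.comap (vecEquiv F e).toLinearMap := by
      change vecEquiv F e ((vecEquiv F e).symm w) ∈ W
      rwa [LinearEquiv.apply_symm_apply]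
    rw [h0, Submodule.mem_bot] at h1
    rw [Submodule.mem_bot]
    simpa using h1
  · intro h0
    apply hcon.2
    rw [eq_top_iff]
    intro w _
    have h1 : (vecEquiv F e).symm w ∈ W.comap (vecEquiv F e).toLinearMap := by rw [h0]; trivial
    have h2 : vecEquiv F e ((vecEquiv F e).symm w) ∈ W := h1
    rwa [LinearEquiv.apply_symm_apply] at h2
  · intro h hh v
    change vecEquiv F e v ∈ W ↔ vecEquiv F e ((h : Matrix ι ι F) *ᵥ v) ∈ W
    rw [vecEquiv_gl]
    refine ⟨fun h1 => key h hh _ h1, fun h1 => ?_⟩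
    have h2 := key h⁻¹ (H.inv_mem hh) _ h1
    rwa [Matrix.mulVec_mulVec, ← Units.val_mul, ← map_mul, inv_mul_cancel, map_one, Units.val_one,
      Matrix.one_mulVec] at h2

theorem ext_transport (e : ι ≃ κ) {H : Subgroup (GL ι F)} {r : ℕ} {E : Subalgebra F (Matrix κ κ F)}
    (hE : IsFieldSubalgebra r E) (hH : H.map (glReindex (F := F) e).toMonoidHom ≤ subalgebraNormalizer E) :
    ∃ E' : Subalgebra F (Matrix ι ι F), IsFieldSubalgebra r E' ∧ H ≤ subalgebraNormalizer E' := by
  set φ := Matrix.reindexAlgEquiv F F e with hφ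
  have hmem : ∀ x, x ∈ E.comap φ.toAlgHom ↔ φ x ∈ E := fun x => Iff.rfl
  refine ⟨E.comap φ.toAlgHom, ⟨?_, ?_, ?_⟩, ?_⟩
  · intro x hx y hy
    have := hE.comm _ ((hmem x).1 hx) _ ((hmem y).1 hy)
    rw [← map_mul, ← map_mul] at this
    exact φ.injective this
  · intro x hx hx0
    obtain ⟨y, hy, hxy⟩ := hE.inv _ ((hmem x).1 hx) (by simpa using hx0)
    refine ⟨φ.symm y, by rw [hmem, AlgEquiv.apply_symm_apply]; exact hy, ?_⟩
    apply φ.injective
    rw [map_mul, AlgEquiv.apply_symm_apply, hxy, map_one]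
  · rw [← hE.finrank_eq]
    have h2 := LinearEquiv.finrank_map_eq φ.toLinearEquiv (E.comap φ.toAlgHom).toSubmodule
    have h1 : Submodule.map (φ.toLinearEquiv : Matrix ι ι F →ₗ[F] Matrix κ κ F)
        (E.comap φ.toAlgHom).toSubmodule = E.toSubmodule := by
      ext x
      constructor
      · rintro ⟨y, hy, rfl⟩
        exact hy
      · intro hx
        exact ⟨φ.symm x, by change φ (φ.symm x) ∈ E; rw [AlgEquiv.apply_symm_apply]; exact hx,
          φ.apply_symm_apply x⟩
    rw [h1] at h2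
    exact h2.symm
  · intro h hh k
    have h1 := hH ⟨h, hh, rfl⟩ (φ k)
    rw [hmem, hmem]
    refine h1.trans ?_
    rw [map_mul, map_mul]
    rfl

theorem sl_transport (e : ι ≃ κ) {H : Subgroup (GL ι F)}
    (hH : specialLinear κ F ≤ H.map (glReindex (F := F) e).toMonoidHom) : specialLinear ι F ≤ H := by
  intro x hx
  apply mem_of_map (e := e)
  apply hH
  have hx' : Matrix.GeneralLinearGroup.det x = 1 := hx
  change Matrix.GeneralLinearGroup.det (glReindex e x : GL κ F) = 1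
  rw [det_glReindex, hx']

omit [Fintype ι] [DecidableEq ι] [Fintype κ] [DecidableEq κ] in
theorem nondeg_transport (e : ι ≃ κ) {f : (κ → F) → (κ → F) → F} (hf : IsNondegenerateForm f) :
    IsNondegenerateForm (fun u v : ι → F => f (vecEquiv F e u) (vecEquiv F e v)) := by
  intro v hv
  obtain ⟨⟨x, hx⟩, ⟨y, hy⟩⟩ := hf (vecEquiv F e v) (by simpa using hv)
  exact ⟨⟨(vecEquiv F e).symm x, by simpa using hx⟩, ⟨(vecEquiv F e).symm y, by simpa using hy⟩⟩

omit [Fintype ι] [DecidableEq ι] [Fintype κ] [DecidableEq κ] in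
theorem bilin_transport (e : ι ≃ κ) {f : (κ → F) → (κ → F) → F} (hf : IsBilinearForm f) :
    IsBilinearForm (fun u v : ι → F => f (vecEquiv F e u) (vecEquiv F e v)) := by
  refine ⟨fun x y v => ?_, fun c x v => ?_, fun v x y => ?_, fun c v x => ?_⟩
  · simp only [map_add, hf.add_left]
  · simp only [map_smul, hf.smul_left]
  · simp only [map_add, hf.add_right]
  · simp only [map_smul, hf.smul_right]

omit [Fintype ι] [DecidableEq ι] [Fintype κ] [DecidableEq κ] in
theorem symp_transport (e : ι ≃ κ) {f : (κ → F) → (κ → F) → F} (hf : IsSymplecticForm f) :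
    IsSymplecticForm (fun u v : ι → F => f (vecEquiv F e u) (vecEquiv F e v)) :=
  ⟨bilin_transport e hf.bilinear, fun _ _ => hf.skew _ _, fun _ => hf.alternating _,
    nondeg_transport e hf.nondegenerate⟩

omit [Fintype ι] [DecidableEq ι] [Fintype κ] [DecidableEq κ] in
theorem unitary_transport (e : ι ≃ κ) {τ : F ≃+* F} {f : (κ → F) → (κ → F) → F} (hf : IsUnitaryForm τ f) :
    IsUnitaryForm τ (fun u v : ι → F => f (vecEquiv F e u) (vecEquiv F e v)) := by
  refine ⟨hf.ne_refl, hf.involutive, fun x y v => ?_, fun c x v => ?_, fun _ _ => hf.herm _ _,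
    nondeg_transport e hf.nondegenerate⟩
  · simp only [map_add, hf.add_left]
  · simp only [map_smul, hf.smul_left]

theorem fixes_transport (e : ι ≃ κ) {f : (κ → F) → (κ → F) → F} {x : GL ι F}
    (hx : FixesForm {(x : Matrix ι ι F)} (fun u v : ι → F => f (vecEquiv F e u) (vecEquiv F e v))) :
    FixesForm {((glReindex e x : GL κ F) : Matrix κ κ F)} f := by
  rintro _ rfl u v
  have h := hx (x : Matrix ι ι F) rfl ((vecEquiv F e).symm u) ((vecEquiv F e).symm v)
  simpa only [vecEquiv_gl, LinearEquiv.apply_symm_apply] using h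

omit [Fintype ι] [DecidableEq ι] [Fintype κ] [DecidableEq κ] in
theorem quad_transport (e : ι ≃ κ) {Q : (κ → F) → F} (hQ : IsNondegenerateQuadraticForm Q) :
    IsNondegenerateQuadraticForm (fun v : ι → F => Q (vecEquiv F e v)) := by
  have hp : QuadraticMap.polar (fun v : ι → F => Q (vecEquiv F e v)) =
      fun u v : ι → F => QuadraticMap.polar Q (vecEquiv F e u) (vecEquiv F e v) := by
    funext u v
    simp only [QuadraticMap.polar, map_add]
  refine ⟨fun c v => ?_, ?_, ?_⟩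
  · simp only [map_smul, hQ.smul]
  · rw [hp]; exact bilin_transport e hQ.polar_bilinear
  · rw [hp]; exact nondeg_transport e hQ.nondegenerate

/-- `Ω` as a commutator subgroup in `GL` -/
theorem omegaGL_eq (Q : (ι → F) → F) : omegaGL Q = ⁅isometryGroup F Q, isometryGroup F Q⁆ := by
  unfold omegaGL Omega
  exact Subgroup.map_subtype_commutator _

theorem omega_transport (e : ι ≃ κ) {Q : (κ → F) → F} {H : Subgroup (GL ι F)}
    (hH : omegaGL Q ≤ H.map (glReindex (F := F) e).toMonoidHom) :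
    omegaGL (fun v : ι → F => Q (vecEquiv F e v)) ≤ H := by
  have h1 : (isometryGroup F (fun v : ι → F => Q (vecEquiv F e v))).map (glReindex (F := F) e).toMonoidHom ≤
      isometryGroup F Q := by
    rintro _ ⟨x, hx, rfl⟩ v w
    have h := hx ((vecEquiv F e).symm v) ((vecEquiv F e).symm w)
    change Q (vecEquiv F e ((x : Matrix ι ι F) *ᵥ (vecEquiv F e).symm v)) = Q (vecEquiv F e ((vecEquiv F e).symm v)) at h
    rw [vecEquiv_gl, LinearEquiv.apply_symm_apply] at h
    exact h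
  intro x hx
  apply mem_of_map (e := e)
  apply hH
  rw [omegaGL_eq] at hx ⊢
  have h2 := Subgroup.mem_map_of_mem (glReindex (F := F) e).toMonoidHom hx
  rw [Subgroup.map_commutator] at h2
  exact Subgroup.commutator_mono h1 h1 h2

end Transport

/-! ### the core -/

/-- **the common core of OG-Sp, OG-SU, OG-O** -/
theorem core (hP : S5948Stmt.{u}) {ι : Type} [Fintype ι] [DecidableEq ι] {F : Type u} [Field F] [Fintype F] {k : ℕ}
    {H : Subgroup (GL ι F)} {g : GL ι F} (hg : g ∈ H)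
    (hnum : Num (Fintype.card F) (Fintype.card ι) k (orderOf g)) (hirr : ¬ Red H) :
    Ext (Nat.gcd (Fintype.card ι) k) H ∨
    specialLinear ι F ≤ H ∨
    (∃ f : (ι → F) → (ι → F) → F, IsSymplecticForm f ∧
        ∀ x : GL ι F, FixesForm {(x : Matrix ι ι F)} f → x ∈ H) ∨
    (∃ (τ : F ≃+* F) (f : (ι → F) → (ι → F) → F), IsUnitaryForm τ f ∧
        ∀ x : GL ι F, FixesForm {(x : Matrix ι ι F)} f → Matrix.GeneralLinearGroup.det x = 1 → x ∈ H) ∨
    (∃ Q : (ι → F) → F, IsNondegenerateQuadraticForm Q ∧ omegaGL Q ≤ H) := by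
  set e : ι ≃ Fin (Fintype.card ι) := Fintype.equivFin ι with he
  set H' := H.map (glReindex (F := F) e).toMonoidHom with hH'
  have hg' : glReindex e g ∈ H' := ⟨g, hg, rfl⟩
  have ho : orderOf (glReindex e g : GL (Fin (Fintype.card ι)) F) = orderOf g := MulEquiv.orderOf_eq _ g
  rcases hP rfl (Fintype.card ι) k hnum.ten hnum.lt (glReindex e g) (by rw [ho]; exact hnum.big)
    (by rw [ho]; exact hnum.dvd) (by rw [ho]; exact hnum.prim) H' hg' (irr_transport e hirr) with
    ⟨F₀, r, P, hr, hc, hle⟩ | ⟨r, E, hr, hd, hE, hle⟩ | h | ⟨f, hf, h⟩ | ⟨τ, f, hf, h⟩ | ⟨Q, hQ, h⟩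
  · exact (not_subfield hnum hg' ho hr hc hle).elim
  · obtain ⟨E', hE', hle'⟩ := ext_transport e hE hle
    exact Or.inl ⟨r, E', hr, hd, hE', hle'⟩
  · exact Or.inr (Or.inl (sl_transport e h))
  · exact Or.inr (Or.inr (Or.inl ⟨_, symp_transport e hf, fun x hx => mem_of_map (e := e) (h _ (fixes_transport e hx))⟩))
  · exact Or.inr (Or.inr (Or.inr (Or.inl ⟨τ, _, unitary_transport e hf, fun x hx hd =>
      mem_of_map (e := e) (h _ (fixes_transport e hx) (by rw [det_glReindex]; exact hd))⟩)))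
  · exact Or.inr (Or.inr (Or.inr (Or.inr ⟨_, quad_transport e hQ, omega_transport e h⟩)))

end Cfsg.Agent.H659.CovCore

private theorem dce_15fe97540e5e : _root_.True := by
  try have : _root_.True := by simp only [_root_.Cfsg.Agent.H659.CovCore.vecEquiv.eq_1]
  exact _root_.True.intro
end

-- part: H659/CovForms
section
prune_inst 0x510642060820008000080903120000000000000000004000cc200000149c04200c008000200000612a08c010801002002100000422000000a0000000006000000000600a0480008200010000000000000000000000000000000000000000000000000000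
set_option linter.all false
open scoped Cfsg.Agent.FastGrp

/-!
# S2499, tasks OG: comparison of forms

Let `H ≤ GL ι F` fix a form `f`.

* `sl_perp`   : if `SL ≤ H`, then `f a w = 0` for independent `a`, `w` (matrix version: distinct basis vectors);
* `symp_prop` : if `H` contains all isometries of the symplectic form `f₂`, and `f` is symplectic, then `f = κ f₂`;
* `su_perp`   : if `H` contains all isometries of determinant one of the unitary form `B`, then `f a w = 0` for `a`
  anisotropic (for `B`) and `w ⊥ a`;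
* `om_perp`   : the same for `Ω(Q)`, `q` odd.
-/

set_option autoImplicit false

namespace Cfsg.Agent.H659.CovForms

open Cfsg Cfsg.Geo Cfsg.Agent.H278.Cov Cfsg.Agent.H659.CovCore
open scoped MatrixGroups Matrix

universe u

section Dil

variable {ι : Type} [Fintype ι] [DecidableEq ι] {F : Type u} [Field F]

/-- the matrix of `v ↦ v + φ v • a` -/
noncomputable def dil (φ : (ι → F) →ₗ[F] F) (a : ι → F) (h : 1 + φ a ≠ 0) : GL ι F :=
  Matrix.GeneralLinearGroup.mkOfDetNeZero (LinearMap.toMatrix' (LinearMap.transvection φ a)) (by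
    rw [LinearMap.det_toMatrix', LinearMap.transvection.det]; exact h)

theorem dil_mulVec (φ : (ι → F) →ₗ[F] F) (a : ι → F) (h : 1 + φ a ≠ 0) (v : ι → F) :
    ((dil φ a h : GL ι F) : Matrix ι ι F) *ᵥ v = v + φ v • a := by
  change (LinearMap.toMatrix' (LinearMap.transvection φ a)) *ᵥ v = _
  rw [← Matrix.toLin'_apply, Matrix.toLin'_toMatrix', LinearMap.transvection.apply]

theorem dil_det (φ : (ι → F) →ₗ[F] F) (a : ι → F) (h : 1 + φ a ≠ 0) :
    ((Matrix.GeneralLinearGroup.det (dil φ a h) : Fˣ) : F) = 1 + φ a := by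
  change Matrix.det (LinearMap.toMatrix' (LinearMap.transvection φ a)) = _
  rw [LinearMap.det_toMatrix', LinearMap.transvection.det]

/-- left linear functions of two arguments -/
structure LL (f : (ι → F) → (ι → F) → F) : Prop where
  add : ∀ x y v, f (x + y) v = f x v + f y v
  smul : ∀ (c : F) (x v : ι → F), f (c • x) v = c * f x v

omit [Fintype ι] [DecidableEq ι] in
theorem LL.zero {f : (ι → F) → (ι → F) → F} (hf : LL f) (v : ι → F) : f 0 v = 0 := by
  have := hf.smul 0 0 v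
  rwa [zero_smul, zero_mul] at this

omit [Fintype ι] [DecidableEq ι] in
theorem LL.neg {f : (ι → F) → (ι → F) → F} (hf : LL f) (x v : ι → F) : f (-x) v = - f x v := by
  have := hf.smul (-1) x v
  rwa [neg_one_smul, neg_one_mul] at this

omit [Fintype ι] [DecidableEq ι] in
theorem LL.sub {f : (ι → F) → (ι → F) → F} (hf : LL f) (x y v : ι → F) : f (x - y) v = f x v - f y v := by
  rw [sub_eq_add_neg, hf.add, hf.neg, sub_eq_add_neg]

/-- the functional `f(·, a)` -/
def fn {f : (ι → F) → (ι → F) → F} (hf : LL f) (a : ι → F) : (ι → F) →ₗ[F] F where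
  toFun v := f v a
  map_add' x y := hf.add x y a
  map_smul' c x := by simp only [hf.smul, smul_eq_mul, RingHom.id_apply]

omit [Fintype ι] [DecidableEq ι] in
@[simp] theorem fn_apply {f : (ι → F) → (ι → F) → F} (hf : LL f) (a v : ι → F) : fn hf a v = f v a := rfl

theorem fixes_of_mem {H : Subgroup (GL ι F)} {f : (ι → F) → (ι → F) → F} (hfix : FixesForm (matrixSet H) f)
    {g : GL ι F} (hg : g ∈ H) (u v : ι → F) :
    f ((g : Matrix ι ι F) *ᵥ u) ((g : Matrix ι ι F) *ᵥ v) = f u v :=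
  hfix _ ⟨g, hg, rfl⟩ u v

end Dil

/-! ### `SL` -/

section SL

variable {ι : Type} [Fintype ι] [DecidableEq ι] {F : Type u} [Field F]

theorem sl_perp {H : Subgroup (GL ι F)} (hSL : specialLinear ι F ≤ H) {f : (ι → F) → (ι → F) → F}
    (hf : LL f) (hfix : FixesForm (matrixSet H) f) (φ : (ι → F) →ₗ[F] F) {a w u : ι → F}
    (ha : φ a = 0) (hw : φ w = 0) (hu : φ u = 1) : f a w = 0 := by
  have h : 1 + φ a ≠ 0 := by rw [ha, add_zero]; exact one_ne_zero
  have hmem : dil φ a h ∈ H := by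
    apply hSL
    apply Units.ext
    rw [dil_det, ha, add_zero]; rfl
  have h1 := fixes_of_mem hfix hmem u w
  rw [dil_mulVec, dil_mulVec, hu, hw, one_smul, zero_smul, add_zero, hf.add] at h1
  simpa using h1

/-- `SL` fixes no non-zero alternating form (dimension at least 3) -/
theorem sl_alternating {H : Subgroup (GL ι F)} (hSL : specialLinear ι F ≤ H) (hn : 3 ≤ Fintype.card ι)
    {f : (ι → F) → (ι → F) → F} (hf : IsBilinearForm f) (halt : ∀ v, f v v = 0)
    (hfix : FixesForm (matrixSet H) f) (u v : ι → F) : f u v = 0 := by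
  have hl : LL f := ⟨hf.add_left, hf.smul_left⟩
  have hr : LL (fun x y => f y x) := ⟨fun x y v => hf.add_right v x y, fun c x v => hf.smul_right c v x⟩
  have key : ∀ i j : ι, f (Pi.single i 1) (Pi.single j 1) = 0 := by
    intro i j
    by_cases hij : i = j
    · rw [hij]; exact halt _
    · obtain ⟨k, hk⟩ : ∃ k, k ∉ ({i, j} : Finset ι) := by
        by_contra hcon
        push Not at hcon
        have h1 : (Finset.univ : Finset ι) ⊆ {i, j} := fun x _ => hcon x
        have h2 := Finset.card_le_card h1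
        have h3 : ({i, j} : Finset ι).card ≤ 2 := Finset.card_le_two
        rw [Finset.card_univ] at h2
        omega
      simp only [Finset.mem_insert, Finset.mem_singleton, not_or] at hk
      refine sl_perp hSL hl hfix (LinearMap.proj k) (u := Pi.single k 1) ?_ ?_ ?_
      · simp [hk.1]
      · simp [hk.2]
      · simp
  have h1 : ∀ j : ι, fn hl (Pi.single j 1) = 0 := by
    intro j
    apply (Pi.basisFun F ι).ext
    intro i
    rw [Pi.basisFun_apply, fn_apply, LinearMap.zero_apply]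
    exact key i j
  have h2 : fn hr u = 0 := by
    apply (Pi.basisFun F ι).ext
    intro j
    rw [Pi.basisFun_apply, fn_apply, LinearMap.zero_apply]
    have := LinearMap.congr_fun (h1 j) u
    exact this
  exact LinearMap.congr_fun h2 v

end SL

/-! ### symplectic forms -/

section Symp

variable {ι : Type} [Fintype ι] [DecidableEq ι] {F : Type u} [Field F]

omit [Fintype ι] [DecidableEq ι] in
/-- a vector outside two hyperplanes -/
theorem exists_both {f : (ι → F) → (ι → F) → F} (hl : LL f) {a b : ι → F} (ha : ∃ x, f x a ≠ 0) (hb : ∃ x, f x b ≠ 0) :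
    ∃ x, f x a ≠ 0 ∧ f x b ≠ 0 := by
  obtain ⟨x, hx⟩ := ha
  obtain ⟨y, hy⟩ := hb
  by_cases h1 : f x b = 0
  · by_cases h2 : f y a = 0
    · exact ⟨x + y, by rw [hl.add, h2, add_zero]; exact hx, by rw [hl.add, h1, zero_add]; exact hy⟩
    · exact ⟨y, h2, hy⟩
  · exact ⟨x, hx, h1⟩

/-- if all isometries of the symplectic form `f₂` lie in `H` and `H` fixes the symplectic form `f`, then `f = κ f₂` -/
theorem symp_prop {H : Subgroup (GL ι F)} {f f₂ : (ι → F) → (ι → F) → F} (hf : IsSymplecticForm f)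
    (hf₂ : IsSymplecticForm f₂) (hfix : FixesForm (matrixSet H) f)
    (hH : ∀ x : GL ι F, FixesForm {(x : Matrix ι ι F)} f₂ → x ∈ H) :
    ∃ κ : F, ∀ u v, f u v = κ * f₂ u v := by
  have hl : LL f := ⟨hf.bilinear.add_left, hf.bilinear.smul_left⟩
  have hl₂ : LL f₂ := ⟨hf₂.bilinear.add_left, hf₂.bilinear.smul_left⟩
  have key : ∀ a v w, f₂ w a * f v a = f₂ v a * f w a := by
    intro a v w
    have h0 : 1 + fn hl₂ a a ≠ 0 := by rw [fn_apply, hf₂.alternating, add_zero]; exact one_ne_zero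
    have hmem : dil (fn hl₂ a) a h0 ∈ H := by
      apply hH
      rintro _ rfl x y
      simp only [dil_mulVec, fn_apply]
      rw [hl₂.add, hl₂.smul, hf₂.bilinear.add_right, hf₂.bilinear.add_right, hf₂.bilinear.smul_right,
        hf₂.bilinear.smul_right, hf₂.alternating, hf₂.skew a y]
      ring
    have h1 := fixes_of_mem hfix hmem v w
    simp only [dil_mulVec, fn_apply] at h1
    rw [hl.add, hl.smul, hf.bilinear.add_right, hf.bilinear.add_right, hf.bilinear.smul_right,
      hf.bilinear.smul_right, hf.alternating, hf.skew a w] at h1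
    linear_combination h1
  -- the constant
  have hk : ∀ a, a ≠ 0 → ∃ κ : F, ∀ v, f v a = κ * f₂ v a := by
    intro a ha
    obtain ⟨w, hw⟩ := (hf₂.nondegenerate a ha).1
    refine ⟨f w a / f₂ w a, fun v => ?_⟩
    rw [div_mul_eq_mul_div, eq_div_iff hw]
    linear_combination key a v w
  by_cases hz : ∃ a : ι → F, a ≠ 0
  · obtain ⟨a, ha⟩ := hz
    obtain ⟨κ, hκ⟩ := hk a ha
    refine ⟨κ, fun u v => ?_⟩
    by_cases hv : v = 0
    · have h1 : f u v = 0 := by
        rw [hv]; have := hf.bilinear.smul_right 0 u 0; rwa [zero_smul, zero_mul] at this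
      have h2 : f₂ u v = 0 := by
        rw [hv]; have := hf₂.bilinear.smul_right 0 u 0; rwa [zero_smul, zero_mul] at this
      rw [h1, h2, mul_zero]
    · obtain ⟨κ', hκ'⟩ := hk v hv
      obtain ⟨x, hxa, hxv⟩ := exists_both hl₂ (hf₂.nondegenerate a ha).1 (hf₂.nondegenerate v hv).1
      have hx0 : x ≠ 0 := by
        rintro rfl
        exact hxa (hl₂.zero a)
      obtain ⟨μ, hμ⟩ := hk x hx0
      have h1 : κ = μ := by
        have e1 := hκ x
        have e2 := hμ a
        rw [hf.skew a x, hf₂.skew a x, e1] at e2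
        have e3 : (κ - μ) * f₂ x a = 0 := by linear_combination -e2
        exact sub_eq_zero.1 ((mul_eq_zero.1 e3).resolve_right hxa)
      have h2 : κ' = μ := by
        have e1 := hκ' x
        have e2 := hμ v
        rw [hf.skew v x, hf₂.skew v x, e1] at e2
        have e3 : (κ' - μ) * f₂ x v = 0 := by linear_combination -e2
        exact sub_eq_zero.1 ((mul_eq_zero.1 e3).resolve_right hxv)
      rw [hκ' u, h2, h1]
  · push Not at hz
    refine ⟨0, fun u v => ?_⟩
    rw [hz u, hl.zero, zero_mul]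

end Symp

/-! ### hermitian and symmetric forms -/

section Herm

variable {ι : Type} [Fintype ι] [DecidableEq ι] {F : Type u} [Field F]

/-- a non-degenerate `σ`-hermitian form with enough anisotropic vectors -/
structure Hm (σ : F ≃+* F) (B : (ι → F) → (ι → F) → F) : Prop where
  ll : LL B
  herm : ∀ v w, B v w = σ (B w v)
  nd : ∀ u, u ≠ 0 → ∃ v, B u v ≠ 0
  aniso : ∀ u v, B u v ≠ 0 → ∃ c d : F, B (c • u + d • v) (c • u + d • v) ≠ 0

variable {σ : F ≃+* F} {B : (ι → F) → (ι → F) → F}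

omit [Fintype ι] [DecidableEq ι] in
theorem Hm.symm (hB : Hm σ B) {v w : ι → F} (h : B v w = 0) : B w v = 0 := by rw [hB.herm, h, map_zero]

omit [DecidableEq ι] in
/-- an anisotropic vector orthogonal to a given orthogonal family of anisotropic vectors -/
theorem Hm.exists_orth (hB : Hm σ B) {m : ℕ} (hm : m < Fintype.card ι) (a : Fin m → (ι → F))
    (ha : ∀ i, B (a i) (a i) ≠ 0) (hao : ∀ i j, i ≠ j → B (a i) (a j) = 0) :
    ∃ w, B w w ≠ 0 ∧ ∀ i, B w (a i) = 0 := by
  have h1 : LinearMap.ker (LinearMap.pi (fun i => fn hB.ll (a i))) ≠ ⊥ := by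
    apply LinearMap.ker_ne_bot_of_finrank_lt
    rw [Module.finrank_fin_fun, Module.finrank_fintype_fun_eq_card]
    exact hm
  obtain ⟨u, hu, hu0⟩ := Submodule.exists_mem_ne_zero_of_ne_bot h1
  have hu1 : ∀ i, B u (a i) = 0 := by
    intro i
    have := congrFun (LinearMap.mem_ker.1 hu) i
    exact this
  obtain ⟨v, hv⟩ := hB.nd u hu0
  set v' := v - ∑ i, (B v (a i) / B (a i) (a i)) • a i with hv'
  have e1 : ∀ j, B v' (a j) = 0 := by
    intro j
    have : B v' (a j) = fn hB.ll (a j) v' := rfl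
    rw [this, hv', map_sub, map_sum, Finset.sum_eq_single j]
    · rw [map_smul, fn_apply, fn_apply, smul_eq_mul, div_mul_cancel₀ _ (ha j), sub_self]
    · intro i _ hij
      rw [map_smul, fn_apply, hao i j hij, smul_zero]
    · intro h; exact absurd (Finset.mem_univ j) h
  have e2 : B u v' ≠ 0 := by
    have h2 : B v' u = B v u := by
      have : B v' u = fn hB.ll u v' := rfl
      rw [this, hv', map_sub, map_sum, Finset.sum_eq_zero, sub_zero, fn_apply]
      intro i _
      rw [map_smul, fn_apply, hB.symm (hu1 i), smul_zero]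
    rw [hB.herm, h2, ← hB.herm]
    exact hv
  obtain ⟨c, d, hcd⟩ := hB.aniso u v' e2
  exact ⟨_, hcd, fun i => by rw [hB.ll.add, hB.ll.smul, hB.ll.smul, hu1, e1, mul_zero, mul_zero, add_zero]⟩

omit [Fintype ι] [DecidableEq ι] in
/-- `w = w₁ + w₂` with `w₁ ⊥ b` and `w₂` a multiple of `b` -/
theorem Hm.split (hB : Hm σ B) {b : ι → F} (hb : B b b ≠ 0) (w : ι → F) :
    ∃ c : F, B (w - c • b) b = 0 :=
  ⟨B w b / B b b, by rw [hB.ll.sub, hB.ll.smul, div_mul_cancel₀ _ hb, sub_self]⟩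

end Herm

/-! ### unitary forms -/

section Unitary

variable {ι : Type} [Fintype ι] [DecidableEq ι] {F : Type u} [Field F]
  {σ : F ≃+* F} {B : (ι → F) → (ι → F) → F}

omit [Fintype ι] [DecidableEq ι] in
theorem uadd (hB : IsUnitaryForm σ B) (u x y : ι → F) : B u (x + y) = B u x + B u y := by
  rw [hB.herm u (x + y), hB.add_left, map_add, ← hB.herm, ← hB.herm]

omit [Fintype ι] [DecidableEq ι] in
theorem usmul (hB : IsUnitaryForm σ B) (u : ι → F) (c : F) (x : ι → F) : B u (c • x) = σ c * B u x := by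
  rw [hB.herm u (c • x), hB.smul_left, map_mul, ← hB.herm]

omit [Fintype ι] [DecidableEq ι] in
theorem hm_of_unitary (hB : IsUnitaryForm σ B) : Hm σ B := by
  have hl : LL B := ⟨hB.add_left, hB.smul_left⟩
  refine ⟨hl, hB.herm, fun u hu => (hB.nondegenerate u hu).2, fun u v huv => ?_⟩
  by_contra hcon
  push Not at hcon
  have h1 : B u u = 0 := by simpa using hcon 1 0
  have h2 : B v v = 0 := by simpa using hcon 0 1
  have h3 : ∀ x : F, x + σ x = 0 := by
    intro x
    have h := hcon (x / B u v) 1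
    rw [one_smul] at h
    rw [hl.add, hl.smul, uadd hB, uadd hB, usmul hB, usmul hB, h1, h2, mul_zero, zero_add,
      add_zero, hB.herm v u, ← map_mul, div_mul_cancel₀ _ huv] at h
    exact h
  have h4 : (1 : F) + 1 = 0 := by simpa using h3 1
  apply hB.ne_refl
  ext x
  have h5 := h3 x
  have h6 : x + x = 0 := by
    have : x + x = x * (1 + 1) := by ring
    rw [this, h4, mul_zero]
  rw [RingEquiv.refl_apply]
  exact add_left_cancel (h5.trans h6.symm)

/-- the quasi-reflection `v ↦ v + (ω - 1) B(v, a) / B(a, a) a` -/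
noncomputable def qref (hl : LL B) (a : ι → F) (ω : F) (ha : B a a ≠ 0) (hω : ω ≠ 0) : GL ι F :=
  dil (((ω - 1) / B a a) • fn hl a) a (by
    rw [LinearMap.smul_apply, fn_apply, smul_eq_mul, div_mul_cancel₀ _ ha, add_sub_cancel]; exact hω)

theorem qref_mulVec (hl : LL B) (a : ι → F) (ω : F) (ha : B a a ≠ 0) (hω : ω ≠ 0) (v : ι → F) :
    ((qref hl a ω ha hω : GL ι F) : Matrix ι ι F) *ᵥ v = v + ((ω - 1) / B a a * B v a) • a := by
  unfold qref
  rw [dil_mulVec, LinearMap.smul_apply, fn_apply, smul_eq_mul]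

theorem qref_det (hl : LL B) (a : ι → F) (ω : F) (ha : B a a ≠ 0) (hω : ω ≠ 0) :
    ((Matrix.GeneralLinearGroup.det (qref hl a ω ha hω) : Fˣ) : F) = ω := by
  unfold qref
  rw [dil_det, LinearMap.smul_apply, fn_apply, smul_eq_mul, div_mul_cancel₀ _ ha, add_sub_cancel]

theorem qref_self (hl : LL B) (a : ι → F) (ω : F) (ha : B a a ≠ 0) (hω : ω ≠ 0) :
    ((qref hl a ω ha hω : GL ι F) : Matrix ι ι F) *ᵥ a = ω • a := by
  rw [qref_mulVec, div_mul_cancel₀ _ ha]
  module

theorem qref_perp (hl : LL B) (a : ι → F) (ω : F) (ha : B a a ≠ 0) (hω : ω ≠ 0) {v : ι → F} (hv : B v a = 0) :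
    ((qref hl a ω ha hω : GL ι F) : Matrix ι ι F) *ᵥ v = v := by
  rw [qref_mulVec, hv, mul_zero, zero_smul, add_zero]

theorem qref_isom (hB : IsUnitaryForm σ B) (a : ι → F) (ω : F) (ha : B a a ≠ 0) (hω : ω ≠ 0) (h1 : ω * σ ω = 1)
    (u v : ι → F) :
    B (((qref ⟨hB.add_left, hB.smul_left⟩ a ω ha hω : GL ι F) : Matrix ι ι F) *ᵥ u)
      (((qref ⟨hB.add_left, hB.smul_left⟩ a ω ha hω : GL ι F) : Matrix ι ι F) *ᵥ v) = B u v := by
  have hN : σ (B a a) = B a a := (hB.herm a a).symm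
  rw [qref_mulVec, qref_mulVec, hB.add_left, hB.smul_left, uadd hB, uadd hB, usmul hB, usmul hB]
  simp only [map_mul, map_sub, map_one, map_div₀, hN]
  rw [← hB.herm a v]
  field_simp
  linear_combination (B u a * B a v) * h1

omit [Fintype ι] [DecidableEq ι] in
/-- an element `ω ≠ 1` of norm one -/
theorem exists_norm_one (hB : IsUnitaryForm σ B) : ∃ ω : F, ω ≠ 0 ∧ ω ≠ 1 ∧ ω * σ ω = 1 := by
  obtain ⟨x, hx⟩ : ∃ x, σ x ≠ x := by
    by_contra hcon
    push Not at hcon
    exact hB.ne_refl (RingEquiv.ext hcon)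
  have hx0 : x ≠ 0 := by rintro rfl; exact hx (map_zero σ)
  have hs0 : σ x ≠ 0 := (map_ne_zero σ).2 hx0
  refine ⟨x / σ x, div_ne_zero hx0 hs0, fun h => hx ?_, ?_⟩
  · rw [div_eq_one_iff_eq hs0] at h; exact h.symm
  · rw [map_div₀, hB.involutive]; field_simp

/-- **unitary comparison** -/
theorem su_perp (hB : IsUnitaryForm σ B) (hn : 3 ≤ Fintype.card ι) {H : Subgroup (GL ι F)}
    (hH : ∀ x : GL ι F, FixesForm {(x : Matrix ι ι F)} B → Matrix.GeneralLinearGroup.det x = 1 → x ∈ H)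
    {f : (ι → F) → (ι → F) → F} (hl : LL f) (hr : ∀ v x y, f v (x + y) = f v x + f v y)
    (hfix : FixesForm (matrixSet H) f) {a w : ι → F} (ha : B a a ≠ 0) (hw : B w a = 0) : f a w = 0 := by
  have hm := hm_of_unitary hB
  have hlB : LL B := ⟨hB.add_left, hB.smul_left⟩
  obtain ⟨ω, hω0, hω1, hω⟩ := exists_norm_one hB
  have hω' : ω⁻¹ * σ ω⁻¹ = 1 := by
    rw [map_inv₀, ← mul_inv, hω, inv_one]
  -- the main step
  have key : ∀ b, B b b ≠ 0 → B b a = 0 → ∀ x, B x a = 0 → B x b = 0 → f a x = 0 := by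
    intro b hb hba x hxa hxb
    have hmem : qref hlB a ω ha hω0 * qref hlB b ω⁻¹ hb (inv_ne_zero hω0) ∈ H := by
      apply hH
      · rintro _ rfl u v
        rw [Units.val_mul, ← Matrix.mulVec_mulVec, ← Matrix.mulVec_mulVec, qref_isom hB a ω ha hω0 hω,
          qref_isom hB b ω⁻¹ hb (inv_ne_zero hω0) hω']
      · apply Units.ext
        rw [map_mul, Units.val_mul, qref_det, qref_det, mul_inv_cancel₀ hω0, Units.val_one]
    have h1 := fixes_of_mem hfix hmem a x
    rw [Units.val_mul, ← Matrix.mulVec_mulVec, ← Matrix.mulVec_mulVec, qref_perp hlB b ω⁻¹ hb _ (hm.symm hba),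
      qref_perp hlB b ω⁻¹ hb _ hxb, qref_self, qref_perp hlB a ω ha _ hxa, hl.smul] at h1
    have h2 : (ω - 1) * f a x = 0 := by linear_combination h1
    exact (mul_eq_zero.1 h2).resolve_left (sub_ne_zero.2 hω1)
  obtain ⟨b, hb, hba⟩ := hm.exists_orth (m := 1) (by omega) ![a] (by simpa using ha)
    (by intro i j hij; exact absurd (Subsingleton.elim i j) hij)
  have hba' : B b a = 0 := by simpa using hba 0
  obtain ⟨b', hb', hba2⟩ := hm.exists_orth (m := 2) (by omega) ![a, b]
    (by intro i; fin_cases i <;> simpa) (by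
      intro i j hij
      fin_cases i <;> fin_cases j
      · exact absurd rfl hij
      · exact hm.symm hba'
      · exact hba'
      · exact absurd rfl hij)
  have h1 : B b' a = 0 := by simpa using hba2 0
  have h2 : B b' b = 0 := by simpa using hba2 1
  obtain ⟨c, hc⟩ := hm.split hb w
  have e : w = (w - c • b) + c • b := by abel
  rw [e, hr, key b hb hba' _ ?_ hc, key b' hb' h1 _ ?_ ?_, add_zero]
  · rw [hlB.smul, hba', mul_zero]
  · rw [hlB.smul, hm.symm h2, mul_zero]
  · rw [hlB.sub, hw, hlB.smul, hba', mul_zero, sub_zero]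

end Unitary

/-! ### orthogonal groups in odd characteristic -/

section Orth

variable {ι : Type} [Fintype ι] [DecidableEq ι] {F : Type u} [Field F] {Q : (ι → F) → F}

omit [Fintype ι] [DecidableEq ι] in
theorem polar_self (hQ : IsNondegenerateQuadraticForm Q) (v : ι → F) : QuadraticMap.polar Q v v = 2 * Q v := by
  have h : v + v = (2 : F) • v := by rw [two_smul]
  rw [QuadraticMap.polar, h, hQ.smul]; ring

omit [Fintype ι] [DecidableEq ι] in
theorem polar_comm' (v w : ι → F) : QuadraticMap.polar Q v w = QuadraticMap.polar Q w v :=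
  QuadraticMap.polar_comm Q v w

omit [Fintype ι] [DecidableEq ι] in
theorem quad_add (Q : (ι → F) → F) (v w : ι → F) : Q (v + w) = Q v + Q w + QuadraticMap.polar Q v w := by
  rw [QuadraticMap.polar]; ring

omit [Fintype ι] [DecidableEq ι] in
theorem hm_of_quad (hQ : IsNondegenerateQuadraticForm Q) (h2 : (2 : F) ≠ 0) :
    Hm (RingEquiv.refl F) (QuadraticMap.polar Q) := by
  have hl : LL (QuadraticMap.polar Q) := ⟨hQ.polar_bilinear.add_left, hQ.polar_bilinear.smul_left⟩
  refine ⟨hl, fun v w => polar_comm' v w, fun u hu => (hQ.nondegenerate u hu).2, fun u v huv => ?_⟩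
  by_contra hcon
  push Not at hcon
  have h3 : QuadraticMap.polar Q u u = 0 := by simpa using hcon 1 0
  have h4 : QuadraticMap.polar Q v v = 0 := by simpa using hcon 0 1
  have h := hcon 1 1
  rw [one_smul, one_smul, hl.add, hQ.polar_bilinear.add_right, hQ.polar_bilinear.add_right, h3, h4,
    polar_comm' v u] at h
  have h5 : 2 * QuadraticMap.polar Q u v = 0 := by linear_combination h
  exact huv ((mul_eq_zero.1 h5).resolve_left h2)

/-- the reflection `v ↦ v - B(v, a) / Q(a) a` -/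
noncomputable def refl' (hl : LL (QuadraticMap.polar Q)) (a : ι → F) (h : 1 + ((-(Q a)⁻¹) • fn hl a) a ≠ 0) : GL ι F :=
  dil ((-(Q a)⁻¹) • fn hl a) a h

omit [Fintype ι] [DecidableEq ι] in
theorem refl_ne (hQ : IsNondegenerateQuadraticForm Q) (hl : LL (QuadraticMap.polar Q)) {a : ι → F} (ha : Q a ≠ 0) :
    1 + ((-(Q a)⁻¹) • fn hl a) a ≠ 0 := by
  rw [LinearMap.smul_apply, fn_apply, polar_self hQ, smul_eq_mul]
  have : 1 + -(Q a)⁻¹ * (2 * Q a) = -1 := by field_simp; norm_num
  rw [this]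
  exact neg_ne_zero.2 one_ne_zero

theorem refl_mulVec (hl : LL (QuadraticMap.polar Q)) (a : ι → F) (h : 1 + ((-(Q a)⁻¹) • fn hl a) a ≠ 0) (v : ι → F) :
    ((refl' hl a h : GL ι F) : Matrix ι ι F) *ᵥ v = v - ((Q a)⁻¹ * QuadraticMap.polar Q v a) • a := by
  unfold refl'
  rw [dil_mulVec, LinearMap.smul_apply, fn_apply, smul_eq_mul, neg_mul, neg_smul, sub_eq_add_neg]

theorem refl_perp (hl : LL (QuadraticMap.polar Q)) (a : ι → F) (h : 1 + ((-(Q a)⁻¹) • fn hl a) a ≠ 0) {v : ι → F}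
    (hv : QuadraticMap.polar Q v a = 0) : ((refl' hl a h : GL ι F) : Matrix ι ι F) *ᵥ v = v := by
  rw [refl_mulVec, hv, mul_zero, zero_smul, sub_zero]

theorem refl_self (hQ : IsNondegenerateQuadraticForm Q) (hl : LL (QuadraticMap.polar Q)) (a : ι → F) (ha : Q a ≠ 0)
    (h : 1 + ((-(Q a)⁻¹) • fn hl a) a ≠ 0) : ((refl' hl a h : GL ι F) : Matrix ι ι F) *ᵥ a = -a := by
  rw [refl_mulVec, polar_self hQ]
  have : (Q a)⁻¹ * (2 * Q a) = 2 := by field_simp
  rw [this]; module

theorem refl_isom (hQ : IsNondegenerateQuadraticForm Q) (hl : LL (QuadraticMap.polar Q)) (a : ι → F) (ha : Q a ≠ 0)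
    (h : 1 + ((-(Q a)⁻¹) • fn hl a) a ≠ 0) : refl' hl a h ∈ isometryGroup F Q := by
  intro v _
  change Q (((refl' hl a h : GL ι F) : Matrix ι ι F) *ᵥ v) = Q v
  rw [refl_mulVec, sub_eq_add_neg, ← neg_smul, quad_add Q, hQ.smul, hQ.polar_bilinear.smul_right]
  field_simp
  ring

theorem inv_mulVec {g : GL ι F} {v w : ι → F} (h : (g : Matrix ι ι F) *ᵥ v = w) :
    ((g⁻¹ : GL ι F) : Matrix ι ι F) *ᵥ w = v := by
  rw [← h, Matrix.mulVec_mulVec, ← Units.val_mul, inv_mul_cancel, Units.val_one, Matrix.one_mulVec]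

/-- an element of `Ω(Q)` which is `-1` at `a` and fixes `⟨a, b⟩^⊥` -/
theorem exists_omega (hQ : IsNondegenerateQuadraticForm Q) (h2 : (2 : F) ≠ 0) {a b : ι → F} (ha : Q a ≠ 0)
    (hab : Q b = Q a) (hp : QuadraticMap.polar Q a b = 0) :
    ∃ g ∈ omegaGL Q, (g : Matrix ι ι F) *ᵥ a = -a ∧
      ∀ w, QuadraticMap.polar Q w a = 0 → QuadraticMap.polar Q w b = 0 → (g : Matrix ι ι F) *ᵥ w = w := by
  have hl : LL (QuadraticMap.polar Q) := ⟨hQ.polar_bilinear.add_left, hQ.polar_bilinear.smul_left⟩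
  have hr : ∀ u, QuadraticMap.polar Q u (a - b) = QuadraticMap.polar Q u a - QuadraticMap.polar Q u b := by
    intro u
    rw [polar_comm', hl.sub, polar_comm' a, polar_comm' b]
  have hQab : Q (a - b) = 2 * Q a := by
    rw [sub_eq_add_neg, quad_add Q, ← neg_one_smul F b, hQ.smul, hQ.polar_bilinear.smul_right, hp, hab]; ring
  have hc : Q (a - b) ≠ 0 := by rw [hQab]; exact mul_ne_zero h2 ha
  set r := refl' hl a (refl_ne hQ hl ha) with hr_def
  set s := refl' hl (a - b) (refl_ne hQ hl hc) with hs_def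
  have hr_mem : r ∈ isometryGroup F Q := refl_isom hQ hl a ha _
  have hs_mem : s ∈ isometryGroup F Q := refl_isom hQ hl _ hc _
  have hsb : (s : Matrix ι ι F) *ᵥ b = a := by
    rw [hs_def, refl_mulVec, hr, polar_comm' b a, hp, polar_self hQ, hab, hQab]
    have : (2 * Q a)⁻¹ * (0 - 2 * Q a) = -1 := by field_simp; ring
    rw [this]; module
  have hrb : (r : Matrix ι ι F) *ᵥ b = b := refl_perp hl a _ (by rw [polar_comm']; exact hp)
  have hra : (r : Matrix ι ι F) *ᵥ a = -a := refl_self hQ hl a ha _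
  refine ⟨r * s * r⁻¹ * s⁻¹, ?_, ?_, ?_⟩
  · rw [omegaGL_eq]
    exact Subgroup.commutator_mem_commutator hr_mem hs_mem
  · rw [Units.val_mul, Units.val_mul, Units.val_mul, ← Matrix.mulVec_mulVec,
      ← Matrix.mulVec_mulVec, ← Matrix.mulVec_mulVec, inv_mulVec hsb, inv_mulVec hrb, hsb, hra]
  · intro w hwa hwb
    have hrw : (r : Matrix ι ι F) *ᵥ w = w := refl_perp hl a _ hwa
    have hsw : (s : Matrix ι ι F) *ᵥ w = w := refl_perp hl (a - b) _ (by rw [hr, hwa, hwb, sub_zero])
    rw [Units.val_mul, Units.val_mul, Units.val_mul, ← Matrix.mulVec_mulVec,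
      ← Matrix.mulVec_mulVec, ← Matrix.mulVec_mulVec, inv_mulVec hsw, inv_mulVec hrw, hsw, hrw]

omit [Fintype ι] [DecidableEq ι] in
/-- universality of orthogonal binary forms -/
theorem exists_quad_eq [Fintype F] (hodd : Odd (Fintype.card F)) (hQ : IsNondegenerateQuadraticForm Q)
    {c d : ι → F} (hc : Q c ≠ 0) (hd : Q d ≠ 0) (hcd : QuadraticMap.polar Q c d = 0) (t : F) :
    ∃ x y : F, Q (x • c + y • d) = t := by
  obtain ⟨x, y, hxy⟩ := FiniteField.exists_root_sum_quadratic (R := F)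
    (f := Polynomial.C (Q c) * Polynomial.X ^ 2) (g := Polynomial.C (Q d) * Polynomial.X ^ 2 - Polynomial.C t)
    (Polynomial.degree_C_mul_X_pow 2 hc) (by
      rw [Polynomial.degree_sub_C]
      · exact Polynomial.degree_C_mul_X_pow 2 hd
      · rw [Polynomial.degree_C_mul_X_pow 2 hd]; norm_num) (Nat.odd_iff.1 hodd)
  refine ⟨x, y, ?_⟩
  rw [quad_add Q, hQ.smul, hQ.smul, hQ.polar_bilinear.smul_right, hQ.polar_bilinear.smul_left, hcd]
  simp only [Polynomial.eval_sub, Polynomial.eval_mul, Polynomial.eval_C, Polynomial.eval_pow,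
    Polynomial.eval_X] at hxy
  linear_combination hxy

theorem two_ne_zero_of_odd [Fintype F] (hodd : Odd (Fintype.card F)) : (2 : F) ≠ 0 := by
  apply Ring.two_ne_zero
  intro h
  have := FiniteField.even_card_iff_char_two.1 h
  rw [Nat.odd_iff] at hodd
  omega

/-- **orthogonal comparison** (odd characteristic) -/
theorem om_perp [Fintype F] (hodd : Odd (Fintype.card F)) (hQ : IsNondegenerateQuadraticForm Q)
    (hn : 5 ≤ Fintype.card ι) {H : Subgroup (GL ι F)} (hH : omegaGL Q ≤ H)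
    {f : (ι → F) → (ι → F) → F} (hlf : LL f) (hrf : ∀ v x y, f v (x + y) = f v x + f v y)
    (hfix : FixesForm (matrixSet H) f) {a w : ι → F} (ha : Q a ≠ 0) (hw : QuadraticMap.polar Q w a = 0) :
    f a w = 0 := by
  have h2 := two_ne_zero_of_odd hodd
  have hm := hm_of_quad hQ h2
  have hl := hm.ll
  have hq : ∀ v, Q v ≠ 0 → QuadraticMap.polar Q v v ≠ 0 := fun v hv => by
    rw [polar_self hQ]; exact mul_ne_zero h2 hv
  have hq' : ∀ v, QuadraticMap.polar Q v v ≠ 0 → Q v ≠ 0 := fun v hv h => by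
    rw [polar_self hQ, h, mul_zero] at hv; exact hv rfl
  have key : ∀ b, Q b = Q a → QuadraticMap.polar Q b a = 0 → ∀ x, QuadraticMap.polar Q x a = 0 →
      QuadraticMap.polar Q x b = 0 → f a x = 0 := by
    intro b hb hba x hxa hxb
    obtain ⟨g, hg, hga, hgw⟩ := exists_omega hQ h2 ha hb (hm.symm hba)
    have h1 := fixes_of_mem hfix (hH hg) a x
    rw [hga, hgw x hxa hxb, hlf.neg] at h1
    have h3 : 2 * f a x = 0 := by linear_combination -h1
    exact (mul_eq_zero.1 h3).resolve_left h2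
  obtain ⟨c₁, hc₁, o₁⟩ := hm.exists_orth (m := 1) (by omega) ![a] (by simpa using hq a ha)
    (by intro i j hij; exact absurd (Subsingleton.elim i j) hij)
  have p1 : QuadraticMap.polar Q c₁ a = 0 := by simpa using o₁ 0
  obtain ⟨c₂, hc₂, o₂⟩ := hm.exists_orth (m := 2) (by omega) ![a, c₁]
    (by intro i; fin_cases i; exacts [hq a ha, hc₁]) (by
      intro i j hij
      fin_cases i <;> fin_cases j
      exacts [absurd rfl hij, hm.symm p1, p1, absurd rfl hij])
  have p2 : QuadraticMap.polar Q c₂ a = 0 := by simpa using o₂ 0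
  have p3 : QuadraticMap.polar Q c₂ c₁ = 0 := by simpa using o₂ 1
  obtain ⟨c₃, hc₃, o₃⟩ := hm.exists_orth (m := 3) (by omega) ![a, c₁, c₂]
    (by intro i; fin_cases i; exacts [hq a ha, hc₁, hc₂]) (by
      intro i j hij
      fin_cases i <;> fin_cases j
      exacts [absurd rfl hij, hm.symm p1, hm.symm p2, p1, absurd rfl hij, hm.symm p3, p2, p3, absurd rfl hij])
  have p4 : QuadraticMap.polar Q c₃ a = 0 := by simpa using o₃ 0
  have p5 : QuadraticMap.polar Q c₃ c₁ = 0 := by simpa using o₃ 1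
  have p6 : QuadraticMap.polar Q c₃ c₂ = 0 := by simpa using o₃ 2
  obtain ⟨c₄, hc₄, o₄⟩ := hm.exists_orth (m := 4) (by omega) ![a, c₁, c₂, c₃]
    (by intro i; fin_cases i; exacts [hq a ha, hc₁, hc₂, hc₃]) (by
      intro i j hij
      fin_cases i <;> fin_cases j
      exacts [absurd rfl hij, hm.symm p1, hm.symm p2, hm.symm p4, p1, absurd rfl hij, hm.symm p3, hm.symm p5,
        p2, p3, absurd rfl hij, hm.symm p6, p4, p5, p6, absurd rfl hij])
  have p7 : QuadraticMap.polar Q c₄ a = 0 := by simpa using o₄ 0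
  have p8 : QuadraticMap.polar Q c₄ c₁ = 0 := by simpa using o₄ 1
  have p9 : QuadraticMap.polar Q c₄ c₂ = 0 := by simpa using o₄ 2
  have p10 : QuadraticMap.polar Q c₄ c₃ = 0 := by simpa using o₄ 3
  obtain ⟨x, y, hb⟩ := exists_quad_eq hodd hQ (hq' _ hc₁) (hq' _ hc₂) (hm.symm p3) (Q a)
  obtain ⟨x', y', hb'⟩ := exists_quad_eq hodd hQ (hq' _ hc₃) (hq' _ hc₄) (hm.symm p10) (Q a)
  set b := x • c₁ + y • c₂ with hbd
  set b' := x' • c₃ + y' • c₄ with hbd'
  have q1 : QuadraticMap.polar Q b a = 0 := by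
    rw [hbd, hl.add, hl.smul, hl.smul, p1, p2, mul_zero, mul_zero, add_zero]
  have q2 : QuadraticMap.polar Q b' a = 0 := by
    rw [hbd', hl.add, hl.smul, hl.smul, p4, p7, mul_zero, mul_zero, add_zero]
  have q3 : QuadraticMap.polar Q b b' = 0 := by
    rw [hbd, hbd', hl.add, hl.smul, hl.smul, hQ.polar_bilinear.add_right, hQ.polar_bilinear.add_right,
      hQ.polar_bilinear.smul_right, hQ.polar_bilinear.smul_right, hQ.polar_bilinear.smul_right,
      hQ.polar_bilinear.smul_right, hm.symm p5, hm.symm p6, hm.symm p8, hm.symm p9]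
    ring
  have hbb : QuadraticMap.polar Q b b ≠ 0 := hq b (by rw [hb]; exact ha)
  obtain ⟨c, hc⟩ := hm.split hbb w
  have e : w = (w - c • b) + c • b := by abel
  rw [e, hrf, key b hb q1 _ ?_ hc, key b' hb' q2 _ ?_ ?_, add_zero]
  · rw [hl.smul, q1, mul_zero]
  · rw [hl.smul, q3, mul_zero]
  · rw [hl.sub, hw, hl.smul, q1, mul_zero, sub_zero]

end Orth

end Cfsg.Agent.H659.CovForms

private theorem dce_c1ba3c1b430d : _root_.True := by
  try have : _root_.True := by simp only [_root_.Cfsg.Agent.H659.CovForms.dil.congr_simp]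
  try have : _root_.True := by simp only [_root_.Cfsg.Agent.H659.CovForms.fn.congr_simp]
  exact _root_.True.intro
end

-- part: H659/CovSp
section
set_option linter.all false
open scoped Cfsg.Agent.FastGrp

/-!
# S2499, task OG-Sp: irreducible overgroups of large primitive elements inside a symplectic group, `q` odd
-/

set_option autoImplicit false

namespace Cfsg.Agent.H659.CovSp

open Cfsg Cfsg.Geo Cfsg.Agent.H278.Cov Cfsg.Agent.H659.CovCore Cfsg.Agent.H659.CovForms
open scoped MatrixGroups Matrix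

universe u

/-- **OG-Sp** -/
theorem og_sp (hP : S5948Stmt.{u}) {ι : Type} [Fintype ι] [DecidableEq ι] {F : Type u} [Field F] [Fintype F] {k : ℕ}
    (hodd : Odd (Fintype.card F)) {f : (ι → F) → (ι → F) → F} (hf : IsSymplecticForm f)
    {H : Subgroup (GL ι F)} (hfix : FixesForm (matrixSet H) f)
    (hne : ∃ x : GL ι F, FixesForm {(x : Matrix ι ι F)} f ∧ x ∉ H)
    {g : GL ι F} (hg : g ∈ H) (hnum : Num (Fintype.card F) (Fintype.card ι) k (orderOf g)) :
    Red H ∨ Ext (Nat.gcd (Fintype.card ι) k) H := by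
  by_cases hirr : Red H
  · exact Or.inl hirr
  right
  have hn : 10 ≤ Fintype.card ι := hnum.ten
  have hl : LL f := ⟨hf.bilinear.add_left, hf.bilinear.smul_left⟩
  have hr := hf.bilinear.add_right
  -- an anisotropic vector of another form
  have fin : ∀ (σ : F ≃+* F) (B : (ι → F) → (ι → F) → F), Hm σ B →
      (∀ a w, B a a ≠ 0 → B w a = 0 → f a w = 0) → False := by
    intro σ B hB h
    obtain ⟨a, ha, -⟩ := hB.exists_orth (m := 0) (by omega) ![] (fun i => i.elim0) (fun i => i.elim0)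
    have ha0 : a ≠ 0 := by
      rintro rfl
      exact ha (hB.ll.zero 0)
    obtain ⟨w, hw⟩ := (hf.nondegenerate a ha0).2
    obtain ⟨c, hc⟩ := hB.split ha w
    apply hw
    have e : w = (w - c • a) + c • a := by abel
    rw [e, hr, h a _ ha hc, hf.bilinear.smul_right, hf.alternating, mul_zero, add_zero]
  obtain ⟨i₀⟩ : Nonempty ι := Fintype.card_pos_iff.1 (by omega)
  have hz : (Pi.single i₀ 1 : ι → F) ≠ 0 := by
    intro h
    have := congrFun h i₀
    rw [Pi.single_eq_same, Pi.zero_apply] at this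
    exact one_ne_zero this
  rcases core hP hg hnum hirr with h | h | ⟨f₂, hf₂, h⟩ | ⟨τ, B, hB, h⟩ | ⟨Q, hQ, h⟩
  · exact h
  · obtain ⟨w, hw⟩ := (hf.nondegenerate _ hz).1
    exact absurd (sl_alternating h (by omega) hf.bilinear hf.alternating hfix _ _) hw
  · obtain ⟨κ, hκ⟩ := symp_prop hf hf₂ hfix h
    have hκ0 : κ ≠ 0 := by
      rintro rfl
      obtain ⟨w, hw⟩ := (hf.nondegenerate _ hz).1
      exact hw (by rw [hκ, zero_mul])
    obtain ⟨x, hx, hxH⟩ := hne
    refine absurd (h x ?_) hxH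
    rintro _ rfl u v
    have h1 := hx _ rfl u v
    rw [hκ, hκ] at h1
    exact mul_left_cancel₀ hκ0 h1
  · exact (fin τ B (hm_of_unitary hB) fun a w ha hw => su_perp hB (by omega) h hl hr hfix ha hw).elim
  · refine (fin _ _ (hm_of_quad hQ (two_ne_zero_of_odd hodd)) fun a w ha hw =>
      om_perp hodd hQ (by omega) h hl hr hfix (fun h0 => ha ?_) hw).elim
    rw [polar_self hQ, h0, mul_zero]

end Cfsg.Agent.H659.CovSp
end

-- part: H89/Cov/OgSU
section
set_option linter.all false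
open scoped Cfsg.Agent.FastGrp

/-!
# S2499 (normal 2-coverings): irreducible proper subgroups of `SU(f)` with an element of large primitive order
-/

set_option autoImplicit false
set_option linter.unusedSectionVars false

namespace Cfsg.Agent.H89.Cov

open Cfsg Cfsg.Geo Matrix Cfsg.Agent.H278.Cov
open scoped MatrixGroups

universe u

/-- the outcome of `S5948` for a proper subgroup of `SU(f)` : only extension field groups -/
theorem ext_of_outcome {ι : Type} [Fintype ι] [DecidableEq ι] {F : Type u} [Field F] [Finite F] {d : ℕ}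
    (hn : 5 ≤ Fintype.card ι) {σ : F ≃+* F} {f : (ι → F) → (ι → F) → F} (hf : IsUnitaryForm σ f)
    {H : Subgroup (GL ι F)} (hfix : FixesForm (matrixSet H) f)
    (hne : ∃ x : GL ι F, FixesForm {(x : Matrix ι ι F)} f ∧ Matrix.GeneralLinearGroup.det x = 1 ∧ x ∉ H)
    (h : Ext d H ∨ specialLinear ι F ≤ H ∨
      (∃ f : (ι → F) → (ι → F) → F, IsSymplecticForm f ∧ ∀ x : GL ι F, FixesForm {(x : Matrix ι ι F)} f → x ∈ H) ∨
      (∃ (τ : F ≃+* F) (f : (ι → F) → (ι → F) → F), IsUnitaryForm τ f ∧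
        ∀ x : GL ι F, FixesForm {(x : Matrix ι ι F)} f → Matrix.GeneralLinearGroup.det x = 1 → x ∈ H) ∨
      (∃ Q : (ι → F) → F, IsNondegenerateQuadraticForm Q ∧ omegaGL Q ≤ H)) : Ext d H := by
  have hone : Nonempty ι := Fintype.card_pos_iff.1 (by omega)
  have hmem : ∀ x ∈ H, FixesForm {(x : Matrix ι ι F)} f := fun x hx =>
    fixesForm_singleton.2 fun u v => hfix _ ⟨x, hx, rfl⟩ u v
  rcases h with h | h | ⟨f', hf', h⟩ | ⟨τ, f', hf', h⟩ | ⟨Q, hQ, h⟩
  · exact h
  · exfalso
    refine H905.not_sl_le_similarityGroup_unitary (by omega) hf fun x hx => ?_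
    refine ⟨1, fun u v => ?_⟩
    rw [Units.val_one, one_mul]
    exact fixesForm_singleton.1 (hmem x (h hx)) u v
  · exact (symp_unit_false hf hf' fun x hx => hmem x (h x hx)).elim
  · exfalso
    have hτ : τ = σ := aut_unique hf'.ne_refl hf'.involutive hf.ne_refl hf.involutive
    subst hτ
    obtain ⟨c, hc0, hc⟩ := unit_prop (by omega) hf hf' fun x hx hd => hmem x (h x hx hd)
    obtain ⟨x, hx, hd, hxH⟩ := hne
    refine hxH (h x (fixesForm_singleton.2 fun u v => ?_) hd)
    have h1 := fixesForm_singleton.1 hx u v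
    rw [hc, hc] at h1
    exact mul_left_cancel₀ hc0 h1
  · exact (omega_unit_false hn hf hQ fun g hg => hmem g (h hg)).elim

/-- **OG-SU** (`F` has `q ^ 2` elements; here `k` is odd); `hP` is the text of `S5948`. -/
theorem og_su (hP : H659.CovCore.S5948Stmt.{u}) {ι : Type} [Fintype ι] [DecidableEq ι] {F : Type u} [Field F]
    [Fintype F] {k q : ℕ} (_hF : Fintype.card F = q ^ 2) {σ : F ≃+* F} {f : (ι → F) → (ι → F) → F}
    (hf : IsUnitaryForm σ f) {H : Subgroup (GL ι F)} (hfix : FixesForm (matrixSet H) f)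
    (_hdet : ∀ x ∈ H, Matrix.GeneralLinearGroup.det x = 1)
    (hne : ∃ x : GL ι F, FixesForm {(x : Matrix ι ι F)} f ∧ Matrix.GeneralLinearGroup.det x = 1 ∧ x ∉ H)
    {g : GL ι F} (hg : g ∈ H) (hnum : Num (Fintype.card F) (Fintype.card ι) k (orderOf g)) :
    Red H ∨ Ext (Nat.gcd (Fintype.card ι) k) H := by
  by_cases hred : Red H
  · exact Or.inl hred
  · exact Or.inr (ext_of_outcome (by have := hnum.ten; omega) hf hfix hne
      (H659.CovCore.core hP hg hnum hred))

end Cfsg.Agent.H89.Cov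
end

-- part: H906/Cov/Num
section
set_option linter.all false
open scoped Cfsg.Agent.FastGrp

/-!
# S2499, task COV-NUM: the numerical hypotheses hold for the primitive part of `q ^ k - 1`
-/

set_option autoImplicit false

namespace Cfsg.Agent.H906.Cov

open Cfsg.Agent.H278.Cov Cfsg.Agent.H588.ZsigPart

/-- a large primitive divisor of `(p ^ a) ^ e - 1` divisible by a primitive prime divisor of `p ^ (a * e) - 1` -/
theorem exists_full {p a e : ℕ} (hp : p.Prime) (ha : 0 < a) (he : 6 ≤ e) (hE : ¬ Exc (p ^ a) e)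
    (h6 : ¬ (p = 2 ∧ a * e = 6)) :
    ∃ m l : ℕ, l.Prime ∧ l ∣ m ∧ m ∣ (p ^ a) ^ e - 1 ∧
      (∀ i : ℕ, 1 ≤ i → i < e → Nat.Coprime m ((p ^ a) ^ i - 1)) ∧ 3 * e + 1 ≤ m ∧
      ∀ k : ℕ, 0 < k → k < a * e → ¬ l ∣ p ^ k - 1 := by
  have hq : 2 ≤ p ^ a := le_trans hp.two_le (Nat.le_self_pow ha.ne' p)
  obtain ⟨m, ⟨hm1, hm2⟩, hm3⟩ := exists_large hq (by omega) hE
  have hae : 6 ≤ a * e := le_trans he (Nat.le_mul_of_pos_left e ha)
  obtain ⟨l, hl, hl2, -⟩ := Lib.Zsigmondy.exists_primitive (a := p) (n := a * e) hp.two_le (by omega)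
    (fun h => by omega) h6
  have hlk : ∀ k : ℕ, 0 < k → k < a * e → ¬ l ∣ p ^ k - 1 := fun k hk hkn h => by
    have := Nat.le_of_dvd hk ((hl2 k).1 h)
    omega
  refine ⟨Nat.lcm m l, l, hl, Nat.dvd_lcm_right m l, ?_, ?_, ?_, hlk⟩
  · apply Nat.lcm_dvd hm1
    rw [← pow_mul]
    exact (hl2 _).2 dvd_rfl
  · intro i hi1 hi2
    have h1 : Nat.Coprime l ((p ^ a) ^ i - 1) := by
      rw [Nat.Prime.coprime_iff_not_dvd hl, ← pow_mul]
      exact hlk _ (Nat.mul_pos ha hi1) (Nat.mul_lt_mul_of_pos_left hi2 ha)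
    exact Nat.Coprime.coprime_dvd_left (Nat.lcm_dvd_mul m l) ((hm2 i hi1 hi2).mul_left h1)
  · have hpos : 0 < Nat.lcm m l := Nat.lcm_pos (by omega) hl.pos
    exact le_trans hm3 (Nat.le_of_dvd hpos (Nat.dvd_lcm_left m l))

theorem sub_of {p A K n l : ℕ} (hp : p.Prime) (hA : 0 < A) (hn : n < 2 * K)
    (hl : ∀ k : ℕ, 0 < k → k < A * K → ¬ l ∣ p ^ k - 1) {q₀ r : ℕ} (hr : r.Prime) (h : p ^ A = q₀ ^ r) {j : ℕ}
    (hj1 : 1 ≤ j) (hj2 : j ≤ n) : ¬ l ∣ q₀ ^ j - 1 := by
  have h1 : q₀ ∣ p ^ A := by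
    rw [h]
    exact dvd_pow_self q₀ hr.ne_zero
  obtain ⟨b, hb, rfl⟩ := (Nat.dvd_prime_pow hp).1 h1
  have h2 : A = b * r := by
    rw [← pow_mul] at h
    exact Nat.pow_right_injective hp.two_le h
  have hb0 : 0 < b := by
    rcases Nat.eq_zero_or_pos b with rfl | h0
    · simp at h2; omega
    · exact h0
  rw [← pow_mul]
  apply hl
  · exact Nat.mul_pos hb0 hj1
  · have h3 : j < r * K := lt_of_lt_of_le (lt_of_le_of_lt hj2 hn) (Nat.mul_le_mul_right K hr.two_le)
    calc b * j < b * (r * K) := Nat.mul_lt_mul_of_pos_left h3 hb0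
      _ = A * K := by rw [h2, mul_assoc]

/-- the primitive part of `q ^ k - 1` satisfies `Num` outside the exceptions of S4423 -/
theorem exists_num {q n k : ℕ} (hq : IsPrimePow q) (hn : 10 ≤ n) (hk : k ≤ n) (hk2 : n < 2 * k)
    (h2 : q = 2 → k ≠ 6 ∧ k ≠ 8 ∧ k ≠ 10 ∧ k ≠ 12 ∧ k ≠ 18 ∧ k ≠ 20)
    (h6 : k = 6 → q ≠ 3 ∧ q ≠ 4 ∧ q ≠ 5) : ∃ m, Num q n k m := by
  obtain ⟨p, a, hp, ha, rfl⟩ := (isPrimePow_nat_iff q).1 hq
  have hk6 : 6 ≤ k := by omega
  have hE : ¬ Exc (p ^ a) k := by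
    intro hE
    simp only [Exc, List.mem_cons, Prod.mk.injEq, List.not_mem_nil, or_false] at hE
    rcases hE with h | h | h | h | h | h | h | h | h | h | h | h | h
    · exact (h2 h.1).1 h.2
    · omega
    · exact (h2 h.1).2.2.1 h.2
    · exact (h2 h.1).2.2.2.1 h.2
    · exact (h2 h.1).2.2.2.2.1 h.2
    · omega
    · exact (h6 h.2).1 h.1
    · exact (h6 h.2).2.2 h.1
    · omega
    · exact (h2 h.1).2.1 h.2
    · exact (h2 h.1).2.2.2.2.2 h.2
    · omega
    · exact (h6 h.2).2.1 h.1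
  have h6' : ¬ (p = 2 ∧ a * k = 6) := by
    rintro ⟨rfl, h⟩
    have ha1 : a = 1 := by
      rcases Nat.lt_or_ge 1 a with h1 | h1
      · exfalso
        have : 2 * k ≤ a * k := Nat.mul_le_mul_right k h1
        omega
      · omega
    subst ha1
    exact (h2 (by norm_num)).1 (by omega)
  obtain ⟨m, l, hl, hlm, hm1, hm2, hm3, hlk⟩ := exists_full hp ha hk6 hE h6'
  exact ⟨m, ⟨hn, hk, hk2, by omega, hm1, hm2, l, hl, hlm,
    fun q₀ r hr h j hj1 hj2 => sub_of hp ha hk2 hlk hr h hj1 hj2⟩⟩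

/-- unitary version: `k` odd, `m ∣ q ^ k + 1` -/
theorem exists_num_u {q n k : ℕ} (hq : IsPrimePow q) (hn : 10 ≤ n) (hk : k ≤ n) (hk2 : n < 2 * k) (hodd : Odd k)
    (h2 : ¬ (q = 2 ∧ k = 9)) : ∃ m, m ∣ q ^ k + 1 ∧ Num (q ^ 2) n k m := by
  obtain ⟨p, a, hp, ha, rfl⟩ := (isPrimePow_nat_iff q).1 hq
  have hk7 : 7 ≤ k := by
    obtain ⟨c, rfl⟩ := hodd
    omega
  have hE : ¬ Exc (p ^ a) (2 * k) := by
    intro hE
    simp only [Exc, List.mem_cons, Prod.mk.injEq, List.not_mem_nil, or_false] at hE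
    obtain ⟨c, rfl⟩ := hodd
    rcases hE with h | h | h | h | h | h | h | h | h | h | h | h | h
    all_goals omega
  have hak : 7 ≤ a * k := le_trans hk7 (Nat.le_mul_of_pos_left k ha)
  have h6' : ¬ (p = 2 ∧ a * (2 * k) = 6) := by
    rintro ⟨rfl, h⟩
    have : a * (2 * k) = 2 * (a * k) := by ring
    omega
  obtain ⟨m, l, hl, hlm, hm1, hm2, hm3, hlk⟩ := exists_full hp ha (by omega) hE h6'
  have hfac : (p ^ a) ^ (2 * k) - 1 = ((p ^ a) ^ k + 1) * ((p ^ a) ^ k - 1) := by
    have h := Nat.sq_sub_sq ((p ^ a) ^ k) 1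
    rw [one_pow, ← pow_mul, mul_comm k 2] at h
    exact h
  have hdiv : m ∣ (p ^ a) ^ k + 1 := by
    rw [hfac] at hm1
    exact (hm2 k (by omega) (by omega)).dvd_of_dvd_mul_right hm1
  have hpow : ∀ i : ℕ, ((p ^ a) ^ 2) ^ i = (p ^ a) ^ (2 * i) := fun i => (pow_mul _ 2 i).symm
  refine ⟨m, hdiv, ⟨hn, hk, hk2, by omega, ?_, ?_, l, hl, hlm, ?_⟩⟩
  · rw [hpow]
    exact hm1
  · intro i hi1 hi2
    rw [hpow]
    exact hm2 _ (by omega) (by omega)
  · intro q₀ r hr h j hj1 hj2
    refine sub_of (A := a * 2) (K := k) hp (by omega) hk2 (fun i hi1 hi2 => hlk i hi1 ?_) hr ?_ hj1 hj2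
    · rw [← mul_assoc]; exact hi2
    · rw [pow_mul]; exact h

end Cfsg.Agent.H906.Cov
end

-- part: H269/U5/Res
section
set_option linter.all false
open scoped Cfsg.Agent.FastGrp

/-!
# `PSU₅(q)` has no normal 2-covering: the residual class (helper269, for S2499)

* `ord_dvd_aut` : in the residual class (any dimension) the order of an element without scalar powers divides the order of the
  automorphism group of the socle.
-/

set_option autoImplicit false
set_option linter.style.haveILetI false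
set_option linter.unusedSectionVars false

namespace Cfsg.Agent.H269.U5

open Cfsg Cfsg.Geo Matrix
open scoped MatrixGroups

section core

variable {ι : Type} [Fintype ι] [DecidableEq ι] {F : Type*} [Field F] {H P : Subgroup (GL ι F)}

theorem scalars_comm {s : GL ι F} (hs : s ∈ scalars ι F) (g : GL ι F) : g * s = s * g := by
  obtain ⟨c, hc⟩ := (mem_scalars_iff s).1 hs
  apply Units.ext
  rw [Units.val_mul, Units.val_mul, hc]
  simp

/-- the action of a residual group on its socle -/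
theorem exists_act (hP : IsResidualCore H P) : ∃ φ : H →* MulAut (P ⧸ (scalars ι F).subgroupOf P),
    ∀ h : H, φ h = 1 → (h : GL ι F) ∈ scalars ι F := by
  classical
  have hinv : ∀ {h : GL ι F}, h ∈ H → ∀ {y : GL ι F}, y ∈ P → h⁻¹ * y * h ∈ P := by
    intro h hh y hy
    have := hP.normal h⁻¹ (H.inv_mem hh) y hy
    rwa [inv_inv] at this
  let c : H → (P ≃* P) := fun h =>
    { toFun := fun y => ⟨h * y * (h : GL ι F)⁻¹, hP.normal h h.2 y y.2⟩
      invFun := fun y => ⟨(h : GL ι F)⁻¹ * y * h, hinv h.2 y.2⟩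
      left_inv := fun y => by apply Subtype.ext; simp [mul_assoc]
      right_inv := fun y => by apply Subtype.ext; simp [mul_assoc]
      map_mul' := fun y z => by apply Subtype.ext; simp [mul_assoc] }
  have hcmap : ∀ h : H, ((scalars ι F).subgroupOf P).map (c h : P ≃* P) = (scalars ι F).subgroupOf P := by
    intro h
    have key : ∀ y : P, (y : GL ι F) ∈ scalars ι F → c h y = y := by
      intro y hy
      apply Subtype.ext
      show (h : GL ι F) * y * (h : GL ι F)⁻¹ = y
      rw [scalars_comm hy, mul_inv_cancel_right]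
    ext y
    constructor
    · rintro ⟨z, hz, rfl⟩
      have : c h z = z := key z (Subgroup.mem_subgroupOf.1 hz)
      show c h z ∈ _
      rw [this]; exact hz
    · intro hy
      exact ⟨y, hy, key y (Subgroup.mem_subgroupOf.1 hy)⟩
  let φ : H →* MulAut (P ⧸ (scalars ι F).subgroupOf P) :=
    { toFun := fun h => QuotientGroup.congr _ _ (c h) (hcmap h)
      map_one' := by
        apply MulEquiv.ext
        intro y
        obtain ⟨y, rfl⟩ := QuotientGroup.mk_surjective y
        show ((c 1 y : P) : P ⧸ (scalars ι F).subgroupOf P) = (y : P ⧸ (scalars ι F).subgroupOf P)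
        congr 1
        apply Subtype.ext
        show ((1 : H) : GL ι F) * y * ((1 : H) : GL ι F)⁻¹ = y
        simp
      map_mul' := fun h k => by
        apply MulEquiv.ext
        intro y
        obtain ⟨y, rfl⟩ := QuotientGroup.mk_surjective y
        show ((c (h * k) y : P) : P ⧸ (scalars ι F).subgroupOf P) = ((c h (c k y) : P) : P ⧸ (scalars ι F).subgroupOf P)
        congr 1
        apply Subtype.ext
        show ((h * k : H) : GL ι F) * y * ((h * k : H) : GL ι F)⁻¹ =
          (h : GL ι F) * ((k : GL ι F) * y * (k : GL ι F)⁻¹) * (h : GL ι F)⁻¹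
        simp [mul_assoc] }
  refine ⟨φ, fun h h1 => ?_⟩
  apply hP.centralizer_scalar h h.2
  intro y hy
  have h2 : φ h (QuotientGroup.mk ⟨y, hy⟩ : P ⧸ (scalars ι F).subgroupOf P) =
      (QuotientGroup.mk ⟨y, hy⟩ : P ⧸ (scalars ι F).subgroupOf P) := by rw [h1]; rfl
  have h2' : (QuotientGroup.mk (c h ⟨y, hy⟩) : P ⧸ (scalars ι F).subgroupOf P) =
      (QuotientGroup.mk ⟨y, hy⟩ : P ⧸ (scalars ι F).subgroupOf P) := h2
  have h3 := QuotientGroup.eq.1 h2'.symm
  have h4 : (y : GL ι F)⁻¹ * (h * y * (h : GL ι F)⁻¹) ∈ scalars ι F := Subgroup.mem_subgroupOf.1 h3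
  have h5 : (h : GL ι F) * y * (h : GL ι F)⁻¹ * y⁻¹ =
      y * (y⁻¹ * (h * y * (h : GL ι F)⁻¹)) * y⁻¹ := by group
  rw [h5, scalars_comm h4, mul_inv_cancel_right]
  exact h4

/-- in the residual class the order of a subgroup without nontrivial scalars divides `|Aut (socle)|` -/
theorem card_dvd_aut (hP : IsResidualCore H P) {X : Subgroup (GL ι F)} (hX : X ≤ H)
    (hs : ∀ x ∈ X, x ∈ scalars ι F → x = 1) :
    Nat.card X ∣ Nat.card (MulAut (P ⧸ (scalars ι F).subgroupOf P)) := by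
  obtain ⟨φ, hφ⟩ := exists_act hP
  refine Subgroup.card_dvd_of_injective (φ.comp (Subgroup.inclusion hX)) ?_
  rw [injective_iff_map_eq_one]
  intro x hx
  exact Subtype.ext (hs x x.2 (hφ _ hx))

/-- in the residual class the order of an element without nontrivial scalar powers divides `|Aut (socle)|` -/
theorem ord_dvd_aut (hP : IsResidualCore H P) {x : GL ι F} (hx : x ∈ H)
    (hs : ∀ m : ℕ, x ^ m ∈ scalars ι F → x ^ m = 1) :
    orderOf x ∣ Nat.card (MulAut (P ⧸ (scalars ι F).subgroupOf P)) := by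
  obtain ⟨φ, hφ⟩ := exists_act hP
  refine dvd_trans ?_ (orderOf_dvd_natCard (φ ⟨x, hx⟩))
  rw [orderOf_dvd_iff_pow_eq_one]
  apply hs
  have h1 := hφ (⟨x, hx⟩ ^ orderOf (φ ⟨x, hx⟩)) (by rw [map_pow, pow_orderOf_eq_one])
  exact h1

end core

theorem card_aut_l211 : Nat.card (MulAut (Matrix.ProjectiveSpecialLinearGroup (Fin 2) (ZMod 11))) ∣ 13200 := by
  have : Fact (Nat.Prime 11) := ⟨by norm_num⟩
  rw [Cfsg.Agent.S0813.result (F := ZMod 11) 11 1 le_rfl (by rw [ZMod.card, pow_one]) 2 le_rfl (by norm_num)]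
  rw [if_pos rfl, one_mul, one_mul]
  have h2 : Nat.card (GL (Fin 2) (ZMod 11)) = 13200 := by
    rw [Matrix.card_GL_field]
    simp [Fin.prod_univ_two, ZMod.card]
  rw [← h2]
  exact Subgroup.card_quotient_dvd_card _

theorem card_aut_u42 {K : Type*} [Field K] [Fintype K] (hK : Fintype.card K = 4) :
    Nat.card (MulAut (Cfsg.PSU 4 K 2)) ∣ 51840 := by
  have : Fact (Nat.Prime 2) := ⟨Nat.prime_two⟩
  have hK' : Fintype.card K = 2 ^ 2 := by rw [hK]; norm_num
  rw [Cfsg.Agent.S0815.result (F := K) 2 1 le_rfl (by norm_num) hK' 4 (by norm_num) (by norm_num)]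
  have h2 : Nat.card (Cfsg.SU 4 K 2) = 25920 := by
    rw [Cfsg.Agent.H948.UProd.card_SU hK' (by norm_num)]
    simp [Finset.prod_range_succ, Cfsg.Agent.H948.UProd.ph, Nat.even_iff]
  have h3 : Nat.card (Cfsg.PSU 4 K 2) ∣ 25920 := by
    rw [← h2]
    exact Subgroup.card_quotient_dvd_card _
  have h4 : Nat.gcd 4 (2 + 1) * (2 * 1) = 2 := by decide
  rw [h4]
  exact (Nat.mul_dvd_mul_left 2 h3)

/-- the orders of the elements of the residual subgroups of `SU₅(q)` -/
theorem res_ord {F : Type*} [Field F] {H P : Subgroup (GL (Fin 5) F)} (hP : IsResidualCore H P)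
    (he : Nonempty ((P ⧸ (scalars (Fin 5) F).subgroupOf P) ≃* Matrix.ProjectiveSpecialLinearGroup (Fin 2) (ZMod 11)) ∨
      ∃ (K : Type) (_ : Field K) (_ : Fintype K), Fintype.card K = 4 ∧
        Nonempty ((P ⧸ (scalars (Fin 5) F).subgroupOf P) ≃* Cfsg.PSU 4 K 2))
    {x : GL (Fin 5) F} (hx : x ∈ H) (hs : ∀ m : ℕ, x ^ m ∈ scalars (Fin 5) F → x ^ m = 1) :
    orderOf x ∣ 13200 ∨ orderOf x ∣ 51840 := by
  have h1 := ord_dvd_aut hP hx hs
  rcases he with ⟨⟨e⟩⟩ | ⟨K, _, _, hK, ⟨e⟩⟩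
  · left
    rw [Nat.card_congr (MulAut.congr e).toEquiv] at h1
    exact h1.trans card_aut_l211
  · right
    rw [Nat.card_congr (MulAut.congr e).toEquiv] at h1
    exact h1.trans (card_aut_u42 hK)

/-- the orders of the subgroups without scalars of the residual subgroups of `SU₅(q)` -/
theorem res_card {F : Type*} [Field F] {H P X : Subgroup (GL (Fin 5) F)} (hP : IsResidualCore H P)
    (he : Nonempty ((P ⧸ (scalars (Fin 5) F).subgroupOf P) ≃* Matrix.ProjectiveSpecialLinearGroup (Fin 2) (ZMod 11)) ∨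
      ∃ (K : Type) (_ : Field K) (_ : Fintype K), Fintype.card K = 4 ∧
        Nonempty ((P ⧸ (scalars (Fin 5) F).subgroupOf P) ≃* Cfsg.PSU 4 K 2))
    (hX : X ≤ H) (hs : ∀ x ∈ X, x ∈ scalars (Fin 5) F → x = 1) :
    Nat.card X ∣ 13200 ∨ Nat.card X ∣ 51840 := by
  have h1 := card_dvd_aut hP hX hs
  rcases he with ⟨⟨e⟩⟩ | ⟨K, _, _, hK, ⟨e⟩⟩
  · left
    rw [Nat.card_congr (MulAut.congr e).toEquiv] at h1
    exact h1.trans card_aut_l211
  · right
    rw [Nat.card_congr (MulAut.congr e).toEquiv] at h1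
    exact h1.trans (card_aut_u42 hK)

end Cfsg.Agent.H269.U5

private theorem dce_1dd91c1d17ef : _root_.True := by
  try have : _root_.True := by simp only [_root_.Cfsg.Agent.H948.UProd.ph.eq_1]
  exact _root_.True.intro
end

-- part: H558/Cov/OgO
section
set_option linter.all false
open scoped Cfsg.Agent.FastGrp

/-!
# S2499 (normal 2-coverings): irreducible proper subgroups of `Ω(Q)` with an element of large primitive order

* `symp_quad_false` : the isometries of a symplectic form do not all preserve a non-degenerate quadratic form;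
* `unit_quad_false` : the determinant-one isometries of a unitary form do not preserve a quadratic form;
* `og_o`            : **OG-O**.
-/

set_option autoImplicit false
set_option linter.unusedSectionVars false

namespace Cfsg.Agent.H558.Cov

open Cfsg Cfsg.Geo Matrix QuadraticMap Cfsg.Agent.H929 Cfsg.Agent.H873 Cfsg.Agent.H278.Cov Cfsg.Agent.H89.Cov
open scoped MatrixGroups

universe u

variable {ι : Type} [Fintype ι] [DecidableEq ι] {F : Type u} [Field F]

theorem exists_not_mem_span2 (hn : 3 ≤ Fintype.card ι) (u v : ι → F) :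
    ∃ y : ι → F, ∀ a b : F, y ≠ a • u + b • v := by
  classical
  by_contra hcon
  push Not at hcon
  have h1 : Submodule.span F (({u, v} : Finset (ι → F)) : Set (ι → F)) = ⊤ := by
    rw [eq_top_iff]
    intro y _
    obtain ⟨a, b, rfl⟩ := hcon y
    refine Submodule.add_mem _ (Submodule.smul_mem _ _ (Submodule.subset_span ?_))
      (Submodule.smul_mem _ _ (Submodule.subset_span ?_))
    · simp
    · simp
  have h2 := finrank_span_finset_le_card (R := F) ({u, v} : Finset (ι → F))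
  rw [Set.finrank, h1, finrank_top, Module.finrank_fintype_fun_eq_card] at h2
  have h3 : ({u, v} : Finset (ι → F)).card ≤ 2 := Finset.card_le_two
  omega

section

variable {Q : (ι → F) → F}

theorem quad_add (Q : (ι → F) → F) (u v : ι → F) : Q (u + v) = Q u + Q v + polar Q u v := by
  rw [polar]; ring

/-- **the isometries of a symplectic form do not all preserve a non-degenerate quadratic form** -/
theorem symp_quad_false (hn : 3 ≤ Fintype.card ι) (hQ : IsNondegenerateQuadraticForm Q)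
    {f : (ι → F) → (ι → F) → F} (hf : IsSymplecticForm f)
    (h : ∀ x : GL ι F, FixesForm {(x : Matrix ι ι F)} f → ∀ v, Q ((x : Matrix ι ι F) *ᵥ v) = Q v) : False := by
  have hB := hQ.polar_bilinear
  have hb := hf.bilinear
  -- the transvections
  have h1 : ∀ x w : ι → F, f x w = 1 → polar Q x w = - Q w := by
    intro x w hxw
    have hdot : ∀ u, cv f w ⬝ᵥ u = f u w := cv_dot hb.add_left hb.smul_left w
    have h0 : cv f w ⬝ᵥ w = 0 := by rw [hdot, hf.alternating]
    have h2 : FixesForm {(tv w (cv f w) h0 : Matrix ι ι F)} f := by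
      rw [fixesForm_singleton]
      intro u v
      rw [tv_mulVec, tv_mulVec, hdot, hdot, hb.add_left, hb.add_right, hb.add_right, hb.smul_left, hb.smul_left,
        hb.smul_right, hb.smul_right, hf.alternating, hf.skew w v]
      ring
    have h3 := h _ h2 x
    rw [tv_mulVec, hdot, hxw, one_smul, quad_add Q] at h3
    linear_combination h3
  have h2 : ∀ x w : ι → F, f x w = 1 → polar Q x w = Q x := by
    intro x w hxw
    have h3 : f w (-x) = 1 := by
      have h4 : f w (-x) = - f w x := by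
        have := hb.smul_right (-1) w x
        rwa [neg_one_smul, neg_one_mul] at this
      rw [h4, hf.skew w x, hxw, neg_neg]
    have h5 := h1 w (-x) h3
    have h6 : Q (-x) = Q x := by
      have := hQ.smul (-1) x
      rw [neg_one_smul] at this
      rw [this]; ring
    have h7 : polar Q w (-x) = - polar Q w x := by
      have := hB.smul_right (-1) w x
      rwa [neg_one_smul, neg_one_mul] at this
    rw [h6, h7] at h5
    rw [polar_comm]
    exact neg_injective h5
  -- a hyperbolic pair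
  obtain ⟨i⟩ : Nonempty ι := Fintype.card_pos_iff.1 (by omega)
  have hi0 : (Pi.single i 1 : ι → F) ≠ 0 := by
    intro h0
    have := congrFun h0 i
    simp at this
  have hyp : ∀ w : ι → F, w ≠ 0 → ∃ x, f x w = 1 := by
    intro w hw
    obtain ⟨x, hx⟩ := (hf.nondegenerate w hw).1
    exact ⟨(f x w)⁻¹ • x, by rw [hb.smul_left, inv_mul_cancel₀ hx]⟩
  -- for a hyperbolic pair: `Q` vanishes on the perp, and the perp is polar-orthogonal to the pair
  have h3 : ∀ x w u : ι → F, f x w = 1 → f u w = 0 → f x u = 0 → polar Q u w = 0 ∧ polar Q x u = 0 ∧ Q u = 0 := by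
    intro x w u hxw huw hxu
    have e1 : f (x + u) w = 1 := by rw [hb.add_left, hxw, huw, add_zero]
    have e2 : f x (w + u) = 1 := by rw [hb.add_right, hxw, hxu, add_zero]
    have a1 := h1 _ _ e1
    have a2 := h2 _ _ e2
    have a3 := h1 _ _ hxw
    have a4 := h2 _ _ hxw
    have a5 := h2 _ _ e1
    rw [hB.add_left] at a1 a5
    rw [hB.add_right] at a2
    have b1 : polar Q u w = 0 := by linear_combination a1 - a3
    have b2 : polar Q x u = 0 := by linear_combination a2 - a4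
    refine ⟨b1, b2, ?_⟩
    rw [quad_add Q, b2] at a5
    linear_combination a4 - a5 + b1
  set w : ι → F := Pi.single i 1 with hw
  obtain ⟨x, hxw⟩ := hyp w hi0
  have hwx : f w x = -1 := by rw [hf.skew, hxw]
  obtain ⟨y, hy⟩ := exists_not_mem_span2 hn x w
  -- the projection to the perp
  have hproj : ∀ y : ι → F, f (y - f y w • x + f y x • w) w = 0 ∧ f x (y - f y w • x + f y x • w) = 0 := by
    intro y
    have e1 : f (y - f y w • x + f y x • w) w = 0 := by
      rw [sub_eq_add_neg, ← neg_smul, hb.add_left, hb.add_left, hb.smul_left, hb.smul_left, hxw, hf.alternating]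
      ring
    have e2 : f (y - f y w • x + f y x • w) x = 0 := by
      rw [sub_eq_add_neg, ← neg_smul, hb.add_left, hb.add_left, hb.smul_left, hb.smul_left, hwx, hf.alternating]
      ring
    exact ⟨e1, by rw [hf.skew, e2, neg_zero]⟩
  set u := y - f y w • x + f y x • w with hu
  have hu0 : u ≠ 0 := by
    intro h0
    apply hy (f y w) (-(f y x))
    rw [neg_smul, ← sub_eq_zero, ← h0, hu]
    abel
  obtain ⟨huw, hxu⟩ := hproj y
  obtain ⟨z, hz⟩ := hyp u hu0
  set v := z - f z w • x + f z x • w with hv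
  obtain ⟨hvw, hxv⟩ := hproj z
  have hwu : f w u = 0 := by rw [hf.skew, huw, neg_zero]
  have hvu : f v u = 1 := by
    rw [hv, sub_eq_add_neg, ← neg_smul, hb.add_left, hb.add_left, hb.smul_left, hb.smul_left, hz, hxu, hwu]
    ring
  -- `x, w` lie in the perp of the pair `v, u`
  have hvx : f v x = 0 := by rw [hf.skew, hxv, neg_zero]
  have hvw' : f v w = 0 := hvw
  obtain ⟨-, -, hQx⟩ := h3 v u x hvu hxu hvx
  have hpxw : polar Q x w = 0 := by rw [h2 x w hxw, hQx]
  have hx0 : x ≠ 0 := by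
    rintro rfl
    have h4 : f 0 w = 0 := by
      have := hb.smul_left 0 0 w
      rwa [zero_smul, zero_mul] at this
    rw [h4] at hxw
    exact zero_ne_one hxw
  obtain ⟨-, ⟨t, ht⟩⟩ := hQ.nondegenerate x hx0
  apply ht
  obtain ⟨ht1, ht2⟩ := hproj t
  obtain ⟨-, h5, -⟩ := h3 x w _ hxw ht1 ht2
  have hxx : polar Q x x = 0 := by
    have e1 : Q (x + x) = 2 ^ 2 * Q x := by rw [← two_smul F x, hQ.smul]
    rw [polar, e1, hQx]; ring
  have h6 : polar Q x t = polar Q x (t - f t w • x + f t x • w) + f t w * polar Q x x - f t x * polar Q x w := by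
    rw [sub_eq_add_neg t, ← neg_smul, hB.add_right, hB.add_right, hB.smul_right, hB.smul_right]
    ring
  rw [h6, h5, hxx, hpxw]
  ring

/-- **the determinant-one isometries of a unitary form do not preserve a non-degenerate quadratic form** -/
theorem unit_quad_false [Finite F] (hn : 3 ≤ Fintype.card ι) (hQ : IsNondegenerateQuadraticForm Q) {σ : F ≃+* F}
    {f : (ι → F) → (ι → F) → F} (hf : IsUnitaryForm σ f)
    (h : ∀ x : GL ι F, FixesForm {(x : Matrix ι ι F)} f → Matrix.GeneralLinearGroup.det x = 1 →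
      ∀ v, Q ((x : Matrix ι ι F) *ᵥ v) = Q v) : False := by
  have hB := hQ.polar_bilinear
  have hF := Herm.of_unitary hf
  obtain ⟨e, he0, he⟩ := exists_trace_zero hf.involutive hf.ne_refl
  have hB0 : ∀ x, polar Q x (0 : ι → F) = 0 := fun x => by
    have := hB.smul_right 0 x 0
    rwa [zero_smul, zero_mul] at this
  -- the transvections
  have star0 : ∀ x w : ι → F, f w w = 0 → f x w ≠ 0 → polar Q x w = - (e * Q w * f x w) := by
    intro x w hw hxw
    have hdot : ∀ u, cv f w ⬝ᵥ u = f u w := cv_dot hf.add_left hf.smul_left w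
    have h0 : cv f w ⬝ᵥ (e • w) = 0 := by rw [hdot, hf.smul_left, hw, mul_zero]
    have h1 : FixesForm {(tv (e • w) (cv f w) h0 : Matrix ι ι F)} f := by
      rw [fixesForm_singleton]
      intro x y
      rw [tv_mulVec, tv_mulVec, hdot, hdot, hF.add_left, hF.add_right, hF.add_right,
        hF.smul_left, hF.smul_left, hF.smul_left, hF.smul_left, hF.smul_right, hF.smul_right,
        hF.smul_right, hF.smul_right, hw, he, hF.herm w y]
      ring
    have hdet : Matrix.GeneralLinearGroup.det (tv (e • w) (cv f w) h0) = 1 := by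
      have h2 := tv_mem_specialLinear _ _ h0
      rw [mem_specialLinear_iff] at h2
      apply Units.ext
      exact h2
    have h3 := h _ h1 hdet x
    rw [tv_mulVec, hdot, smul_smul, quad_add Q, hQ.smul, hB.smul_right] at h3
    have h4 : (f x w * e) * (polar Q x w + e * Q w * f x w) = 0 := by linear_combination h3
    rcases mul_eq_zero.1 h4 with h5 | h5
    · exact absurd h5 (mul_ne_zero hxw he0)
    · linear_combination h5
  have star : ∀ x w : ι → F, w ≠ 0 → f w w = 0 → polar Q x w = - (e * Q w * f x w) := by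
    intro x w hw0 hw
    by_cases hxw : f x w = 0
    · obtain ⟨y, hy⟩ := (hf.nondegenerate w hw0).1
      have h1 := star0 y w hw hy
      have h2 := star0 (x + y) w hw (by rw [hf.add_left, hxw, zero_add]; exact hy)
      rw [hB.add_left, hf.add_left, hxw, zero_add] at h2
      rw [hxw]
      linear_combination h2 - h1
    · exact star0 x w hw hxw
  have hQne : ∀ w : ι → F, w ≠ 0 → f w w = 0 → Q w ≠ 0 := by
    intro w hw0 hw hQw
    obtain ⟨⟨x, hx⟩, -⟩ := hQ.nondegenerate w hw0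
    apply hx
    rw [star x w hw0 hw, hQw]
    ring
  -- a hyperbolic pair
  obtain ⟨i⟩ : Nonempty ι := Fintype.card_pos_iff.1 (by omega)
  have hi0 : (Pi.single i 1 : ι → F) ≠ 0 := by
    intro h0
    have := congrFun h0 i
    simp at this
  have h2' : ∀ v ∈ (⊤ : Submodule F (ι → F)), ∃ x ∈ (⊤ : Submodule F (ι → F)), ∀ c : F, x ≠ c • v := by
    intro v _
    obtain ⟨x, hx⟩ := exists_not_smul (by omega : 2 ≤ Fintype.card ι) v
    exact ⟨x, trivial, hx⟩
  have hnd' : ∀ x ∈ (⊤ : Submodule F (ι → F)), x ≠ 0 → ∃ y ∈ (⊤ : Submodule F (ι → F)), f x y ≠ 0 := by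
    intro x _ hx
    obtain ⟨y, hy⟩ := (hf.nondegenerate x hx).2
    exact ⟨y, trivial, hy⟩
  obtain ⟨u, -, huu, hu⟩ := hF.exists_isotropic_not_orth hf.ne_refl ⊤ hnd' h2' (v := Pi.single i 1) trivial hi0
  have hu0 : u ≠ 0 := by
    rintro rfl
    rw [hF.zero_right] at hu
    exact hu rfl
  obtain ⟨v, -, hvv, huv⟩ := hF.exists_hyperbolic hf.ne_refl ⊤ hnd' trivial hu0 huu
  have hvu : f v u = 1 := by rw [hf.herm, huv, map_one]
  have hv0 : v ≠ 0 := by
    rintro rfl
    rw [hF.zero_right] at huv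
    exact zero_ne_one huv
  -- the perp of the pair
  let H : Submodule F (ι → F) :=
    { carrier := {x | f x u = 0 ∧ f x v = 0}
      add_mem' := fun {a b} ha hb => ⟨by rw [hf.add_left, ha.1, hb.1, add_zero], by rw [hf.add_left, ha.2, hb.2, add_zero]⟩
      zero_mem' := ⟨hF.zero_left u, hF.zero_left v⟩
      smul_mem' := fun c a ha => ⟨by rw [hf.smul_left, ha.1, mul_zero], by rw [hf.smul_left, ha.2, mul_zero]⟩ }
  have hproj : ∀ y : ι → F, y - f y v • u - f y u • v ∈ H := by
    intro y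
    refine ⟨?_, ?_⟩
    · rw [hF.sub_left, hF.sub_left, hF.smul_left, hF.smul_left, huu, hvu]; ring
    · rw [hF.sub_left, hF.sub_left, hF.smul_left, hF.smul_left, huv, hvv]; ring
  have hndH : ∀ x ∈ H, x ≠ 0 → ∃ y ∈ H, f x y ≠ 0 := by
    intro x hx hx0
    obtain ⟨y, hy⟩ := (hf.nondegenerate x hx0).2
    refine ⟨_, hproj y, ?_⟩
    rw [hF.sub_right, hF.sub_right, hF.smul_right, hF.smul_right, hx.1, hx.2]
    simpa using hy
  obtain ⟨y, hy⟩ := exists_not_mem_span2 hn u v
  set z := y - f y v • u - f y u • v with hz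
  have hz0 : z ≠ 0 := by
    intro h0
    apply hy (f y v) (f y u)
    rw [hz] at h0
    rw [← sub_eq_zero, ← h0]
    abel
  obtain ⟨r, ⟨hru, hrv⟩, hrr⟩ := hF.exists_nonisotropic hf.ne_refl H hndH (hproj y) hz0
  have hur : f u r = 0 := by rw [hf.herm, hru, map_zero]
  have hvr : f v r = 0 := by rw [hf.herm, hrv, map_zero]
  obtain ⟨t₁, ht₁⟩ := exists_trace_one hf.involutive hf.ne_refl
  set t := -(f r r) * t₁ with ht
  have htt : t + σ t = - f r r := by
    rw [ht, map_mul, map_neg, hF.self_fixed]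
    linear_combination (-(f r r)) * ht₁
  -- hyperbolic pairs
  have hL : ∀ a b : ι → F, a ≠ 0 → b ≠ 0 → f a a = 0 → f b b = 0 → f a b = 1 → Q b = - Q a := by
    intro a b ha0 hb0 haa hbb hab
    have hba : f b a = 1 := by rw [hf.herm, hab, map_one]
    have hw : f (a + e • b) (a + e • b) = 0 := by
      rw [hF.add_left, hF.add_right, hF.add_right, hF.smul_left, hF.smul_left, hF.smul_right, hF.smul_right, haa, hbb,
        hab, hba, he]
      ring
    have hw0 : a + e • b ≠ 0 := by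
      intro h0
      have h1 : f (a + e • b) b = 1 := by rw [hF.add_left, hF.smul_left, hab, hbb, mul_zero, add_zero]
      rw [h0, hF.zero_left] at h1
      exact zero_ne_one h1
    have s1 := star b _ hw0 hw
    have s2 := star a _ hw0 hw
    rw [hB.add_right, hB.smul_right, star b a ha0 haa, star b b hb0 hbb, hF.add_right, hF.smul_right, hba, hbb] at s1
    rw [hB.add_right, hB.smul_right, star a a ha0 haa, star a b hb0 hbb, hF.add_right, hF.smul_right, haa, hab, he] at s2
    have s3 : e * (Q a - Q (a + e • b)) = 0 := by linear_combination -s1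
    have s4 : (e * e) * (Q b + Q (a + e • b)) = 0 := by linear_combination -s2
    have s5 := (mul_eq_zero.1 s3).resolve_left he0
    have s6 := (mul_eq_zero.1 s4).resolve_left (mul_ne_zero he0 he0)
    linear_combination s5 + s6
  have hQv : Q v = - Q u := hL u v hu0 hv0 huu hvv huv
  -- the two further isotropic vectors
  have p1 : f (v + r + t • u) (v + r + t • u) = 0 := by
    simp only [hF.add_left, hF.add_right, hF.smul_left, hF.smul_right, huu, hvv, huv, hvu, hru, hrv, hur, hvr]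
    linear_combination htt
  have p2 : f u (v + r + t • u) = 1 := by
    rw [hF.add_right, hF.add_right, hF.smul_right, huv, hur, huu]; ring
  have p3 : v + r + t • u ≠ 0 := by
    intro h0
    rw [h0, hF.zero_right] at p2
    exact zero_ne_one p2
  have q1 : f (u + r + t • v) (u + r + t • v) = 0 := by
    simp only [hF.add_left, hF.add_right, hF.smul_left, hF.smul_right, huu, hvv, huv, hvu, hru, hrv, hur, hvr]
    linear_combination htt
  have q2 : f v (u + r + t • v) = 1 := by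
    rw [hF.add_right, hF.add_right, hF.smul_right, hvu, hvr, hvv]; ring
  have q3 : u + r + t • v ≠ 0 := by
    intro h0
    rw [h0, hF.zero_right] at q2
    exact zero_ne_one q2
  have p4 := hL _ _ hu0 p3 huu p1 p2
  have q4 := hL _ _ hv0 q3 hvv q1 q2
  have p5 := star v _ p3 p1
  have q5 := star v _ q3 q1
  rw [hB.add_right, hB.add_right, hB.smul_right, star v v hv0 hvv, star v u hu0 huu, p4, hF.add_right, hF.add_right,
    hF.smul_right, hvv, hvr, hvu] at p5
  rw [hB.add_right, hB.add_right, hB.smul_right, star v v hv0 hvv, star v u hu0 huu, q4, q2, hvv, hvu, hQv] at q5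
  have key : (e * Q u) * f r r = 0 := by
    linear_combination (e * Q u) * htt + p5 - q5
  rcases mul_eq_zero.1 key with h1 | h1
  · exact mul_ne_zero he0 (hQne u hu0 huu) h1
  · exact hrr h1

end

/-- the outcome of `S5948` for a proper subgroup of `Ω(Q)` : only extension field groups -/
theorem ext_of_outcome [Finite F] {d : ℕ} (hn : 5 ≤ Fintype.card ι) {Q : (ι → F) → F}
    (hQ : IsNondegenerateQuadraticForm Q) {H : Subgroup (GL ι F)} (hle : H ≤ omegaGL Q) (hne : H ≠ omegaGL Q)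
    (h : Ext d H ∨ specialLinear ι F ≤ H ∨
      (∃ f : (ι → F) → (ι → F) → F, IsSymplecticForm f ∧ ∀ x : GL ι F, FixesForm {(x : Matrix ι ι F)} f → x ∈ H) ∨
      (∃ (τ : F ≃+* F) (f : (ι → F) → (ι → F) → F), IsUnitaryForm τ f ∧
        ∀ x : GL ι F, FixesForm {(x : Matrix ι ι F)} f → Matrix.GeneralLinearGroup.det x = 1 → x ∈ H) ∨
      (∃ Q : (ι → F) → F, IsNondegenerateQuadraticForm Q ∧ omegaGL Q ≤ H)) : Ext d H := by
  have hone : Nonempty ι := Fintype.card_pos_iff.1 (by omega)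
  have hmem : ∀ x ∈ H, ∀ v, Q ((x : Matrix ι ι F) *ᵥ v) = Q v := fun x hx v =>
    H925.Nat.omegaGL_fixes Q _ ⟨x, hle hx, rfl⟩ v
  rcases h with h | h | ⟨f', hf', h⟩ | ⟨τ, f', hf', h⟩ | ⟨Q', hQ', h⟩
  · exact h
  · exfalso
    refine H905.not_sl_le_quadSimilarityGroup (by omega) hQ fun x hx => ?_
    exact ⟨1, fun v => by rw [Units.val_one, one_mul]; exact hmem x (h hx) v⟩
  · exact (symp_quad_false (by omega) hQ hf' fun x hx => hmem x (h x hx)).elim
  · exact (unit_quad_false (by omega) hQ hf' fun x hx hd => hmem x (h x hx hd)).elim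
  · exfalso
    apply hne
    have h1 : FixesQuadForm (matrixSet (omegaGL Q')) Q := by
      rintro _ ⟨x, hx, rfl⟩ v
      exact hmem x (h hx) v
    obtain ⟨c, hc, h2⟩ := H925.Nat.quad_prop (H925.Nat.omegaGL_absIrr hQ' hn) hQ' hQ (H925.Nat.omegaGL_fixes Q') h1
    have h3 : omegaGL Q = omegaGL Q' := H925.Nat.omegaGL_smul hc h2
    exact le_antisymm hle (h3 ▸ h)

/-- **OG-O** (`q` odd, or the dimension even); `hP` is the text of `S5948`. -/
theorem og_o (hP : H659.CovCore.S5948Stmt.{u}) [Fintype F] {k : ℕ} {Q : (ι → F) → F}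
    (hQ : IsNondegenerateQuadraticForm Q) {H : Subgroup (GL ι F)} (hle : H ≤ omegaGL Q) (hne : H ≠ omegaGL Q)
    {g : GL ι F} (hg : g ∈ H) (hnum : Num (Fintype.card F) (Fintype.card ι) k (orderOf g)) :
    Red H ∨ Ext (Nat.gcd (Fintype.card ι) k) H := by
  by_cases hred : Red H
  · exact Or.inl hred
  · exact Or.inr (ext_of_outcome (by have := hnum.ten; omega) hQ hle hne (H659.CovCore.core hP hg hnum hred))

end Cfsg.Agent.H558.Cov
end
end
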