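import Cfsg.Agent.Schreier.Basic
import Cfsg.Prelude.Def_GeometricClasses
import Cfsg.Agent.S0813
import Cfsg.Agent.StandardComponent.AltAut
import Cfsg.Agent.ClassicalGeometry.PSL2Basic
import Cfsg.Agent.FastGrp
import Cfsg.Agent.Prune
set_option linter.all false

section
prune_inst 0x7f00000000000000000000000000000000000000000000000000000000000000000000000000000000000000000000000000000000000000000000000000000000000000000000000000000000000000003fffffffffffffffffffffffffffbeffbdffffffff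

-- part: H917/CoreLe
section
set_option linter.all false
open scoped Cfsg.Agent.FastGrp

/-!
# Perfect subgroups of a group with a residual core lie in the core (helper917)

`le_core` : `IsResidualCore H P`, `Y ≤ H` perfect ⟹ `Y ≤ P`; the hypothesis `hSch` is the Schreier property of the
finite simple groups (`Schreier.Assembly.known` with `S0000.result`).
-/

set_option autoImplicit false

namespace Cfsg.Agent.H917

open Matrix Subgroup
open scoped MatrixGroups commutatorElement

universe u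

variable {ι : Type} [Fintype ι] [DecidableEq ι] {F : Type u} [Field F]

theorem scalars_comm {g : GL ι F} (hg : g ∈ Cfsg.Geo.scalars ι F) (h : GL ι F) : g * h = h * g := by
  obtain ⟨c, hc⟩ := (Cfsg.Geo.mem_scalars_iff g).1 hg
  apply Units.ext
  rw [Units.val_mul, Units.val_mul, hc, smul_mul_assoc, one_mul, mul_smul_comm, mul_one]

instance scalars_normal : (Cfsg.Geo.scalars ι F).Normal where
  conj_mem n hn g := by
    rw [← scalars_comm hn g, mul_inv_cancel_right]
    exact hn

/-- commutator of elements of `P Z` -/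
theorem commutator_mul_scalars {a b z w : GL ι F} (hz : z ∈ Cfsg.Geo.scalars ι F) (hw : w ∈ Cfsg.Geo.scalars ι F) :
    ⁅a * z, b * w⁆ = ⁅a, b⁆ := by
  have hz' : ∀ x, z * x = x * z := scalars_comm hz
  have hw' : ∀ x, w * x = x * w := scalars_comm hw
  rw [commutatorElement_def, commutatorElement_def, _root_.mul_inv_rev, _root_.mul_inv_rev]
  calc a * z * (b * w) * (z⁻¹ * a⁻¹) * (w⁻¹ * b⁻¹) = a * (z * (b * w)) * z⁻¹ * a⁻¹ * w⁻¹ * b⁻¹ := by group
    _ = a * b * (w * a⁻¹) * w⁻¹ * b⁻¹ := by rw [hz' (b * w)]; group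
    _ = a * b * a⁻¹ * b⁻¹ := by rw [hw' a⁻¹]; group

/-- a perfect subgroup of `P Z`, `P` perfect, lies in `P` -/
theorem le_of_le_sup_scalars {P Y : Subgroup (GL ι F)} (hY : ⁅Y, Y⁆ = Y)
    (h : ∀ y ∈ Y, ∃ p ∈ P, ∃ z ∈ Cfsg.Geo.scalars ι F, y = p * z) : Y ≤ P := by
  rw [← hY, Subgroup.commutator_le]
  intro a ha b hb
  obtain ⟨a', ha', z, hz, rfl⟩ := h a ha
  obtain ⟨b', hb', w, hw, rfl⟩ := h b hb
  rw [commutator_mul_scalars hz hw]
  exact mul_mem (mul_mem (mul_mem ha' hb') (inv_mem ha')) (inv_mem hb')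

section

variable {H P : Subgroup (GL ι F)}

/-- the image of `P` modulo scalars is the simple group `P / (P ∩ Z)` -/
noncomputable def coreEquiv (hP : P ≤ H) : (P ⧸ (Cfsg.Geo.scalars ι F).subgroupOf P) ≃*
    ((P.subgroupOf H).map (QuotientGroup.mk' ((Cfsg.Geo.scalars ι F).subgroupOf H)) :
      Subgroup (H ⧸ (Cfsg.Geo.scalars ι F).subgroupOf H)) := by
  let π := QuotientGroup.mk' ((Cfsg.Geo.scalars ι F).subgroupOf H)
  let ψ : P →* ((P.subgroupOf H).map π : Subgroup (H ⧸ (Cfsg.Geo.scalars ι F).subgroupOf H)) :=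
    (π.comp (Subgroup.inclusion hP)).codRestrict _ (fun x => ⟨Subgroup.inclusion hP x, x.2, rfl⟩)
  have hψ : Function.Surjective ψ := by
    rintro ⟨_, ⟨x, hx, rfl⟩⟩
    exact ⟨⟨(x : GL ι F), hx⟩, rfl⟩
  have hk : ψ.ker = (Cfsg.Geo.scalars ι F).subgroupOf P := by
    ext x
    rw [MonoidHom.mem_ker, mem_subgroupOf]
    constructor
    · intro h
      have h1 : π (Subgroup.inclusion hP x) = 1 := congrArg Subtype.val h
      have h2 : Subgroup.inclusion hP x ∈ (Cfsg.Geo.scalars ι F).subgroupOf H := (QuotientGroup.eq_one_iff _).1 h1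
      exact h2
    · intro h
      apply Subtype.ext
      have h2 : Subgroup.inclusion hP x ∈ (Cfsg.Geo.scalars ι F).subgroupOf H := h
      exact (QuotientGroup.eq_one_iff _).2 h2
  exact (QuotientGroup.quotientMulEquivOfEq hk.symm).trans (QuotientGroup.quotientKerEquivOfSurjective ψ hψ)

theorem le_core [Finite F] (h : Cfsg.Geo.IsResidualCore H P)
    (hSch : ∀ (K : Type u) [Group K] [Finite K] [IsSimpleGroup K], ¬ IsMulCommutative K → Schreier.Basic.Sch K)
    {Y : Subgroup (GL ι F)} (hYH : Y ≤ H) (hY : ⁅Y, Y⁆ = Y) : Y ≤ P := by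
  have hfin : Finite (GL ι F) := inferInstance
  set Z := (Cfsg.Geo.scalars ι F).subgroupOf H with hZ
  let π := QuotientGroup.mk' Z
  set Pb : Subgroup (H ⧸ Z) := (P.subgroupOf H).map π with hPb
  let e := coreEquiv (F := F) h.le
  have hsimple : IsSimpleGroup (P ⧸ (Cfsg.Geo.scalars ι F).subgroupOf P) := h.simple
  have hs : IsSimpleGroup Pb := e.symm.isSimpleGroup
  have hna : ¬ IsMulCommutative Pb := by
    intro hc
    apply h.nonabelian
    constructor
    constructor
    intro a b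
    apply e.injective
    rw [map_mul, map_mul]
    exact hc.is_comm.comm _ _
  have hS : Schreier.Basic.Sch Pb := hSch Pb hna
  have hPn : (P.subgroupOf H).Normal := ⟨fun x hx g => by
    rw [mem_subgroupOf] at hx ⊢
    exact h.normal g g.2 x hx⟩
  have hn : Pb.Normal := hPn.map π (QuotientGroup.mk'_surjective _)
  let φ : (H ⧸ Z) →* MulAut Pb := MulAut.conjNormal
  have hφ : ∀ x, φ x = 1 → x = 1 := by
    intro x hx
    obtain ⟨g, rfl⟩ := QuotientGroup.mk'_surjective Z x
    apply (QuotientGroup.eq_one_iff _).2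
    apply h.centralizer_scalar g g.2
    intro y hy
    have h2 := congrArg (fun f : MulAut Pb => ((f ⟨π ⟨y, h.le hy⟩, ⟨⟨y, h.le hy⟩, hy, rfl⟩⟩ : Pb) : H ⧸ Z)) hx
    simp only [φ, MulAut.conjNormal_apply, MulAut.one_apply] at h2
    have h3 : π (g * ⟨y, h.le hy⟩ * g⁻¹ * (⟨y, h.le hy⟩ : H)⁻¹) = 1 := by
      rw [map_mul, map_inv, mul_inv_eq_one, map_mul, map_mul, map_inv]
      exact h2
    have h4 : g * ⟨y, h.le hy⟩ * g⁻¹ * (⟨y, h.le hy⟩ : H)⁻¹ ∈ Z := (QuotientGroup.eq_one_iff _).1 h3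
    exact h4
  set D : Subgroup (H ⧸ Z) := (Y.subgroupOf H).map π with hD
  have hDp : ⁅D, D⁆ = D := by
    rw [hD, ← Subgroup.map_commutator]
    congr 1
    apply Subgroup.map_injective (Subgroup.subtype_injective H)
    rw [Subgroup.map_commutator, Subgroup.subgroupOf_map_subtype, inf_eq_left.2 hYH, hY]
  apply le_of_le_sup_scalars hY
  intro y hy
  have h1 : ⁅D.map φ, D.map φ⁆ = D.map φ := by rw [← Subgroup.map_commutator, hDp]
  have hyD : π ⟨y, hYH hy⟩ ∈ D := ⟨⟨y, hYH hy⟩, hy, rfl⟩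
  obtain ⟨x, hx⟩ := hS _ h1 (Subgroup.mem_map_of_mem φ hyD)
  obtain ⟨x, ⟨p, hp, rfl⟩⟩ := x
  have h2 : φ ((π p)⁻¹ * π ⟨y, hYH hy⟩) = 1 := by
    rw [map_mul, map_inv, ← hx]
    have h3 : φ (π p) = MulAut.conj (⟨π p, ⟨p, hp, rfl⟩⟩ : Pb) := by
      ext z
      simp [φ, MulAut.conjNormal_apply, MulAut.conj_apply]
    rw [h3, inv_mul_cancel]
  have h3 := hφ _ h2
  rw [← map_inv, ← map_mul] at h3
  have h4 := (QuotientGroup.eq_one_iff _).1 h3
  exact ⟨p, hp, (p : GL ι F)⁻¹ * y, h4, by group⟩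

end

end Cfsg.Agent.H917
end

-- part: H781/Cov9/Res
section
set_option linter.all false
open scoped Cfsg.Agent.FastGrp

/-!
# S2499, row `Ω_9(q)`: primes dividing the order of a residual subgroup (helper781)
-/

set_option autoImplicit false
set_option linter.unusedSectionVars false

namespace Cfsg.Agent.H781.Cov9

open Cfsg Cfsg.Geo Module
open scoped Matrix MatrixGroups

section core

variable {ι : Type} [Fintype ι] [DecidableEq ι] {F : Type*} [Field F]
variable {H P : Subgroup (GL ι F)}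

theorem exists_core_inj (h : IsResidualCore H P) :
    ∃ φ : (H ⧸ (scalars ι F).subgroupOf H) →* MulAut (P ⧸ (scalars ι F).subgroupOf P),
      Function.Injective φ := by
  set Z := (scalars ι F).subgroupOf H with hZ
  let π := QuotientGroup.mk' Z
  set Pb : Subgroup (H ⧸ Z) := (P.subgroupOf H).map π with hPb
  let e := H917.coreEquiv (F := F) h.le
  have hPn : (P.subgroupOf H).Normal := ⟨fun x hx g => by
    rw [Subgroup.mem_subgroupOf] at hx ⊢
    exact h.normal g g.2 x hx⟩
  have hn : Pb.Normal := hPn.map π (QuotientGroup.mk'_surjective _)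
  let φ : (H ⧸ Z) →* MulAut Pb := MulAut.conjNormal
  have hφ : ∀ x, φ x = 1 → x = 1 := by
    intro x hx
    obtain ⟨g, rfl⟩ := QuotientGroup.mk'_surjective Z x
    apply (QuotientGroup.eq_one_iff _).2
    apply h.centralizer_scalar g g.2
    intro y hy
    have h2 := congrArg (fun f : MulAut Pb => ((f ⟨π ⟨y, h.le hy⟩, ⟨⟨y, h.le hy⟩, hy, rfl⟩⟩ : Pb) : H ⧸ Z)) hx
    simp only [φ, MulAut.conjNormal_apply, MulAut.one_apply] at h2
    have h3 : π (g * ⟨y, h.le hy⟩ * g⁻¹ * (⟨y, h.le hy⟩ : H)⁻¹) = 1 := by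
      rw [map_mul, map_inv, mul_inv_eq_one, map_mul, map_mul, map_inv]
      exact h2
    have h4 : g * ⟨y, h.le hy⟩ * g⁻¹ * (⟨y, h.le hy⟩ : H)⁻¹ ∈ Z := (QuotientGroup.eq_one_iff _).1 h3
    exact h4
  have hinj : Function.Injective φ := (injective_iff_map_eq_one φ).2 hφ
  exact ⟨((MulAut.congr e.symm).toMonoidHom).comp φ, (MulAut.congr e.symm).injective.comp hinj⟩

/-- the prime order of a non-scalar element divides the order of the automorphism group of the core -/
theorem dvd_aut_core (h : IsResidualCore H P) {g : GL ι F} (hg : g ∈ H) (hgs : g ∉ scalars ι F) {r : ℕ}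
    (hr : r.Prime) (hgr : g ^ r = 1) : r ∣ Nat.card (MulAut (P ⧸ (scalars ι F).subgroupOf P)) := by
  obtain ⟨φ, hφ⟩ := exists_core_inj h
  have := Fact.mk hr
  have h1 : orderOf (φ (QuotientGroup.mk' ((scalars ι F).subgroupOf H) ⟨g, hg⟩)) = r := by
    apply orderOf_eq_prime
    · have h2 : (⟨g, hg⟩ : H) ^ r = 1 := Subtype.ext hgr
      rw [← map_pow, ← map_pow, h2, map_one, map_one]
    · intro h2
      apply hgs
      have h3 : QuotientGroup.mk' ((scalars ι F).subgroupOf H) ⟨g, hg⟩ = 1 := hφ (h2.trans (map_one φ).symm)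
      have h4 : (⟨g, hg⟩ : H) ∈ (scalars ι F).subgroupOf H := (QuotientGroup.eq_one_iff _).1 h3
      exact h4
  rw [← h1]
  exact orderOf_dvd_natCard _

end core

theorem card_mulAut_congr {G H : Type*} [Group G] [Group H] (e : G ≃* H) :
    Nat.card (MulAut G) = Nat.card (MulAut H) := Nat.card_congr (MulAut.congr e).toEquiv

theorem card_mulAut_psl {K : Type*} [Field K] [Fintype K] {p f : ℕ} (hp : p.Prime) (hf : 1 ≤ f)
    (hK : Fintype.card K = p ^ f) (h4 : 4 ≤ p ^ f) :
    Nat.card (MulAut (Matrix.ProjectiveSpecialLinearGroup (Fin 2) K)) = f * (p ^ f * ((p ^ f) ^ 2 - 1)) := by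
  have := Fact.mk hp
  rw [Cfsg.Agent.S0813.result p f hf hK 2 le_rfl (fun _ => h4), if_pos rfl,
    ClassicalGeometry.PSL2Basic.card_PGL2, hK, one_mul]

theorem card_mulAut_alt (n : ℕ) (hn : 7 ≤ n) : Nat.card (MulAut (alternatingGroup (Fin n))) ∣ n.factorial := by
  obtain ⟨ψ, hψ⟩ := StandardComponent.AltAut.exists_autHom n hn
  have hinj : Function.Injective ψ := by
    rw [injective_iff_map_eq_one]
    intro e he
    apply MulEquiv.ext
    intro x
    apply Subtype.ext
    rw [hψ, he, one_mul, inv_one, mul_one]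
    rfl
  have h1 := Subgroup.card_dvd_of_injective ψ hinj
  rwa [Nat.card_eq_fintype_card, Nat.card_eq_fintype_card (α := Equiv.Perm (Fin n)), Fintype.card_perm, Fintype.card_fin,
    ← Nat.card_eq_fintype_card] at h1

end Cfsg.Agent.H781.Cov9
end
end
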